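import Cfsg.Agent.Lib.Helper28.BG12b
import Cfsg.Agent.Lib.Helper14.BG11A
import Cfsg.Agent.Lib.Helper40.BG15a
import Cfsg.Agent.Lib.Helper13.BG127.TRANSV
import Cfsg.Agent.Lib.Helper13.BG127.PTH
import Cfsg.Agent.Lib.Helper13.BG127.CENT
import Cfsg.Agent.S1324
import Cfsg.Agent.S1408

/-!
B-G Theorem 12.7 (statement S1419) from the texts of S1416, S1417, S1418.
-/

set_option autoImplicit false

namespace Cfsg.Agent.Lib.Helper13.BG127

open Subgroup Cfsg.Agent.Lib.Helper30 Cfsg.Agent.Lib.Helper2 Cfsg.Agent.Lib.Helper68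
  Cfsg.Agent.Lib.Helper28 Cfsg.Agent.Lib.Helper28.BG12

universe u

variable {G : Type u} [Group G]

/-- full text of S1416. -/
def T1416f (G : Type u) [Group G] : Prop :=
  ∀ (M : Subgroup G), IsCoatom M → ∀ (p : ℕ) [Fact p.Prime] (A : Subgroup G),
    (A ≤ M ∧ Cfsg.IsElementaryAbelian p A ∧ Nat.card A = p ^ 2) →
    Subgroup.centralizer (A : Set G) ≤ M ∧
      ((∀ A₀ : Subgroup G, A₀ ≤ A → Nat.card A₀ = p →
          ¬ (Subgroup.normalizer (A₀ : Set G) ≤ M ∧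
            ∀ L : Subgroup G, IsCoatom L → Subgroup.normalizer (A₀ : Set G) ≤ L → L = M)) →
        p ∈ Cfsg.sigma M ∧ Cfsg.alphaCore M = ⊥ ∧ Group.IsNilpotent (Cfsg.sigmaCore M))

theorem ne_bot_of_card_sq {p : ℕ} [hp : Fact p.Prime] {A : Subgroup G} (hA2 : Nat.card A = p ^ 2) :
    A ≠ ⊥ := by
  rintro rfl
  rw [card_bot] at hA2
  have : 1 < p ^ 2 := Nat.one_lt_pow (by norm_num) hp.out.one_lt
  omega

theorem ne_bot_of_card_prime {p : ℕ} [hp : Fact p.Prime] {A : Subgroup G} (hA2 : Nat.card A = p) :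
    A ≠ ⊥ := by
  rintro rfl
  rw [card_bot] at hA2
  exact hp.out.one_lt.ne hA2

theorem ms_ne_bot [Finite G] (hG : Cfsg.IsMinSimpleOddOrder G) {M E A : Subgroup G}
    (hM : IsCoatom M) (hE : Cfsg.IsComplIn E (Cfsg.sigmaCore M) M) (hA1 : A ≠ ⊥) (hAM : A ≤ M)
    (hMNE : M ⊓ normalizer (A : Set G) = E) (hN : ¬ normalizer (A : Set G) ≤ M) :
    Cfsg.sigmaCore M ≠ ⊥ := by
  intro h
  have hME : M ≤ E := by
    intro m hm
    obtain ⟨a, ha, b, hb, rfl⟩ := hE.2.2.2 m hm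
    rw [h, mem_bot] at hb
    rw [hb, mul_one]
    exact ha
  have hMN : M ≤ normalizer (A : Set G) := by
    rw [← hMNE] at hME
    exact hME.trans inf_le_right
  exact hN (normalizer_eq_of_coatom hG hM hA1 hAM hMN).le

theorem exists_s [Finite G] (h17 : T1417 G) {M : Subgroup G}
    (hM : IsCoatom M) {p : ℕ} [Fact p.Prime] (hp : p ∈ Cfsg.tau2 M)
    (hS : ∀ S : Sylow p G, ¬ IsMulCommutative (S : Subgroup G)) {A : Subgroup G} (hAM : A ≤ M)
    (hA : Cfsg.IsElementaryAbelian p A) (hA2 : Nat.card A = p ^ 2) :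
    ∃ (P : Subgroup G) (S : Sylow p G) (s : G), IsSylowIn p P M ∧ A ≤ P ∧ P ≤ (S : Subgroup G) ∧
      (∀ x ∈ P, x ^ p = 1 ↔ x ∈ A) ∧ s ∈ (S : Subgroup G) ∧ s ∈ normalizer (A : Set G) ∧ s ∉ M := by
  obtain ⟨P, hP⟩ := ((ea_isPGroup hA).comap_subtype (K := M)).exists_le_sylow
  have hAP : A ≤ (P : Subgroup M).map M.subtype := by
    have h2 := Subgroup.map_mono (f := M.subtype) hP
    rwa [show (A.comap M.subtype).map M.subtype = A from map_subgroupOf_eq_of_le hAM] at h2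
  obtain ⟨hPc, hP2⟩ := (h17 M hM p hp A ⟨hAM, hA, hA2⟩).2.1 P
  obtain ⟨hom, -⟩ := hP2 hAP
  have hPs := isSylowIn_of_sylow P
  set P' := (P : Subgroup M).map M.subtype with hP'
  obtain ⟨S, hPS⟩ := hPs.isPGroup.exists_le_sylow
  have hne : P' ≠ (S : Subgroup G) := by
    intro h
    apply hS S
    rw [← h]
    refine ⟨⟨?_⟩⟩
    rintro ⟨_, a, ha, rfl⟩ ⟨_, b, hb, rfl⟩
    apply Subtype.ext
    exact congrArg (fun z : ↥(P : Subgroup M) => ((z : ↥M) : G)) (hPc.is_comm.comm ⟨a, ha⟩ ⟨b, hb⟩)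
  obtain ⟨s, hsS, hsN, hsP⟩ := exists_mem_normalizer_not_mem S.2 (lt_of_le_of_ne hPS hne)
  refine ⟨P', S, s, hPs, hAP, hPS, hom, hsS, ?_, ?_⟩
  · exact Cfsg.Agent.Lib.Helper40.BG15.normalizer_le_of_omega hAP hom hsN
  · intro hsM
    have h1 : IsPGroup p ↥((S : Subgroup G) ⊓ M) := S.2.to_le inf_le_left
    have h2 := hPs.eq_of_le (V := (S : Subgroup G) ⊓ M) inf_le_right h1 (le_inf hPS hPs.le)
    apply hsP
    rw [← h2]
    exact ⟨hsS, hsM⟩

/-- a `p`-element of `M` normalizing `A` centralizes `A`. -/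
theorem pelt_centralizes [Finite G] (hG : Cfsg.IsMinSimpleOddOrder G) (h17 : T1417 G)
    {M : Subgroup G} (hM : IsCoatom M) {p : ℕ} [Fact p.Prime] (hp : p ∉ Cfsg.sigma M)
    {A : Subgroup G} (hAM : A ≤ M) (hA : Cfsg.IsElementaryAbelian p A) {t : G} (htM : t ∈ M)
    (htN : t ∈ normalizer (A : Set G)) {k : ℕ} (htp : t ^ p ^ k = 1) :
    t ∈ centralizer (A : Set G) := by
  have h1 : IsPGroup p ↥(zpowers t) := by
    apply IsPGroup.of_card (n := (Nat.factorization (orderOf t)) p)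
    rw [Nat.card_zpowers]
    obtain ⟨j, -, hj⟩ := (Nat.dvd_prime_pow Fact.out).mp (orderOf_dvd_of_pow_eq_one htp)
    rw [hj, Nat.Prime.factorization_pow Fact.out]
    simp
  have h2 : IsPGroup p ↥(zpowers t ⊔ A) :=
    IsPGroup.to_sup_of_normal_right' h1 (ea_isPGroup hA) (zpowers_le.mpr htN)
  rw [mem_centralizer_iff]
  intro a ha
  exact comm_of_isPGroup_sigma' hG h17 hM hp (X := zpowers t ⊔ A)
    (sup_le (zpowers_le.mpr htM) hAM) h2 (mem_sup_right ha) (mem_sup_left (mem_zpowers t))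

theorem cj_ne_of_not_mem [Finite G] (hG : Cfsg.IsMinSimpleOddOrder G) {M : Subgroup G}
    (hM : IsCoatom M) (hM1 : M ≠ ⊥) {t : G} (ht : t ∉ M) : cj t M ≠ M := by
  intro h
  apply ht
  have h1 := mem_normalizer_of_cj_eq h
  rwa [normalizer_eq_of_coatom hG hM hM1 le_rfl le_normalizer] at h1

theorem le_cj_of_mem_normalizer {A M : Subgroup G} (hAM : A ≤ M) {t : G}
    (ht : t ∈ normalizer (A : Set G)) : A ≤ cj t M := by
  have := cj_mono t hAM
  rwa [cj_eq_of_mem_normalizer ht] at this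

theorem reg [Finite G] (hG : Cfsg.IsMinSimpleOddOrder G) (h17 : T1417 G) {M : Subgroup G}
    (hM : IsCoatom M) {p : ℕ} [Fact p.Prime] (hp : p ∈ Cfsg.tau2 M) {A : Subgroup G} (hAM : A ≤ M)
    (hA : Cfsg.IsElementaryAbelian p A) (hA2 : Nat.card A = p ^ 2)
    (huniq : ∀ X : Subgroup G, X ≤ A → Nat.card X = p →
      Cfsg.sigmaCore M ⊓ centralizer (X : Set G) ≠ ⊥ → centralizer (X : Set G) ≤ M)
    {s : G} (hsN : s ∈ normalizer (A : Set G)) (hsM : s ∉ M) {k : ℕ} (hsp : s ^ p ^ k = 1)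
    {Z : Subgroup G} (hsZ : s ∈ centralizer (Z : Set G))
    (htr : ∀ X Y : Subgroup G, X ≤ A → Y ≤ A → Nat.card X = p → Nat.card Y = p → X ≠ Z → Y ≠ Z →
        ∃ i : ℕ, Y = cj (s ^ i) X)
    {A₀ : Subgroup G} (hA₀A : A₀ ≤ A) (hA₀c : Nat.card A₀ = p)
    (hNA₀ : normalizer (A₀ : Set G) ≤ M) :
    ∀ X : Subgroup G, X ≤ A → Nat.card X = p → X ≠ A₀ →
      Cfsg.sigmaCore M ⊓ centralizer (X : Set G) = ⊥ ∧
        (X = Z ∨ ∃ t : G, t ∈ normalizer (A : Set G) ∧ t ∉ M ∧ X = cj t A₀) := by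
  intro X hXA hXc hXne
  have hM1 : M ≠ ⊥ := by
    rintro rfl
    exact ne_bot_of_card_sq hA2 (le_bot_iff.mp hAM)
  by_cases hXZ : X = Z
  · subst hXZ
    refine ⟨?_, Or.inl rfl⟩
    by_contra h
    exact hsM ((huniq X hXA hXc h) hsZ)
  · have hA₀Z : A₀ ≠ Z := by
      rintro rfl
      exact hsM (hNA₀ (centralizer_le_normalizer _ hsZ))
    obtain ⟨i, hi⟩ := htr A₀ X hA₀A hXA hA₀c hXc hA₀Z hXZ
    have htN : s ^ i ∈ normalizer (A : Set G) := pow_mem hsN i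
    have htM : s ^ i ∉ M := by
      intro htM
      have h1 := pelt_centralizes hG h17 hM hp.2.1 hAM hA htM htN (k := k)
        (by rw [← pow_mul, mul_comm, pow_mul, hsp, one_pow])
      apply hXne
      rw [hi]
      exact cj_eq_of_mem_normalizer (centralizer_le_normalizer _ (centralizer_le hA₀A h1))
    refine ⟨?_, Or.inr ⟨s ^ i, htN, htM, hi⟩⟩
    have hstar := (h17 M hM p hp A ⟨hAM, hA, hA2⟩).2.2.2.2.1 (cj (s ^ i) M)
      (Cfsg.Agent.Lib.Helper58.BG9.isCoatom_cj hM _) (cj_ne_of_not_mem hG hM hM1 htM)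
      (le_cj_of_mem_normalizer hAM htN)
    rw [eq_bot_iff, ← hstar]
    refine le_inf inf_le_left (inf_le_right.trans ?_)
    rw [hi]
    calc centralizer ((cj (s ^ i) A₀ : Subgroup G) : Set G)
        ≤ normalizer ((cj (s ^ i) A₀ : Subgroup G) : Set G) := centralizer_le_normalizer _
      _ = cj (s ^ i) (normalizer (A₀ : Set G)) := normalizer_cj _ A₀
      _ ≤ cj (s ^ i) M := cj_mono _ hNA₀

theorem gen [Finite G] {K A A₀ : Subgroup G} {p : ℕ} [hpp : Fact p.Prime]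
    (hA : Cfsg.IsElementaryAbelian p A) (hA2 : Nat.card A = p ^ 2) (hK : ¬ p ∣ Nat.card K)
    (hAK : A ≤ normalizer (K : Set G)) (hA₀A : A₀ ≤ A)
    (hreg : ∀ X : Subgroup G, X ≤ A → Nat.card X = p → X ≠ A₀ → K ⊓ centralizer (X : Set G) = ⊥) :
    K ≤ centralizer (A₀ : Set G) := by
  have h := Cfsg.Agent.S1324.result p A K hA hA2.ge hK hAK
  rw [h]
  refine iSup_le ?_
  rintro ⟨B, hBA, hBi⟩
  show K ⊓ centralizer (B : Set G) ≤ centralizer (A₀ : Set G)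
  by_cases hB : B = A₀
  · subst hB; exact inf_le_right
  have h1 : Nat.card A = Nat.card B * B.relIndex A := card_eq_card_mul_relIndex hBA
  have h2 : Nat.card B ∣ p ^ 2 := hA2 ▸ card_dvd_of_le hBA
  obtain ⟨j, hj, hj2⟩ := (Nat.dvd_prime_pow hpp.out).mp h2
  have hp1 := hpp.out.one_lt
  interval_cases j
  · exfalso
    rw [hj2, hA2, pow_zero, one_mul] at h1
    rw [← h1] at hBi
    nlinarith
  · rw [hreg B hBA (by simpa using hj2) hB]
    exact bot_le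
  · have h3 : B = A := eq_of_le_of_card_ge hBA (by rw [hj2, hA2])
    rw [h3]
    exact inf_le_right.trans (centralizer_le hA₀A)

theorem inf_centralizer_eq [Finite G] {K A A₀ : Subgroup G} {p : ℕ} [hpp : Fact p.Prime]
    (hA2 : Nat.card A = p ^ 2) (hA₀A : A₀ ≤ A) (hA₀c : Nat.card A₀ = p) (hK1 : K ≠ ⊥)
    (hKA : K ⊓ centralizer (A : Set G) = ⊥) (hKA₀ : K ≤ centralizer (A₀ : Set G)) :
    A ⊓ centralizer (K : Set G) = A₀ := by
  have h1 : A₀ ≤ A ⊓ centralizer (K : Set G) := le_inf hA₀A (le_centralizer_iff.mp hKA₀)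
  have h2 : Nat.card ↥(A ⊓ centralizer (K : Set G)) ∣ p ^ 2 := hA2 ▸ card_dvd_of_le inf_le_left
  obtain ⟨j, hj, hj2⟩ := (Nat.dvd_prime_pow hpp.out).mp h2
  have hp1 := hpp.out.one_lt
  have h3 := card_le_of_le h1
  rw [hA₀c, hj2] at h3
  symm
  interval_cases j
  · rw [pow_zero] at h3; omega
  · exact eq_of_le_of_card_ge h1 (by rw [hj2, hA₀c, pow_one])
  · exfalso
    have h4 : A ⊓ centralizer (K : Set G) = A := eq_of_le_of_card_ge inf_le_left (by rw [hj2, hA2])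
    have h5 : A ≤ centralizer (K : Set G) := h4 ▸ inf_le_right
    apply hK1
    rw [eq_bot_iff, ← hKA]
    exact le_inf le_rfl (le_centralizer_iff.mp h5)

theorem not_le_of_cj [Finite G] (hG : Cfsg.IsMinSimpleOddOrder G) (h17 : T1417 G) {M : Subgroup G}
    (hM : IsCoatom M) {p : ℕ} [Fact p.Prime] (hp : p ∈ Cfsg.tau2 M) {A : Subgroup G} (hAM : A ≤ M)
    (hA : Cfsg.IsElementaryAbelian p A) (hA2 : Nat.card A = p ^ 2)
    (hK1 : Cfsg.sigmaCore M ≠ ⊥) {A₀ : Subgroup G}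
    (hKA₀ : Cfsg.sigmaCore M ≤ centralizer (A₀ : Set G)) {t : G}
    (htN : t ∈ normalizer (A : Set G)) (htM : t ∉ M) :
    ¬ centralizer ((cj t A₀ : Subgroup G) : Set G) ≤ M := by
  intro h
  have hM1 : M ≠ ⊥ := by
    rintro rfl
    exact ne_bot_of_card_sq hA2 (le_bot_iff.mp hAM)
  rw [centralizer_cj] at h
  have h1 : Cfsg.sigmaCore M ≤ cj t⁻¹ M := cj_le_iff.mp ((cj_mono t hKA₀).trans h)
  have hstar := (h17 M hM p hp A ⟨hAM, hA, hA2⟩).2.2.2.2.1 (cj t⁻¹ M)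
      (Cfsg.Agent.Lib.Helper58.BG9.isCoatom_cj hM _)
      (cj_ne_of_not_mem hG hM hM1 (fun h => htM (by simpa using inv_mem h)))
      (le_cj_of_mem_normalizer hAM (inv_mem htN))
  apply hK1
  rw [eq_bot_iff, ← hstar]
  exact le_inf le_rfl h1

theorem le_centralizer_of_normalize {A B E : Subgroup G} (hAE : A ≤ E) (hBE : B ≤ E)
    (hEA : E ≤ normalizer (A : Set G)) (hEB : E ≤ normalizer (B : Set G)) (hAB : A ⊓ B = ⊥) :
    B ≤ centralizer (A : Set G) := by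
  intro b hb
  rw [mem_centralizer_iff]
  intro a ha
  have h1 : a * b * a⁻¹ * b⁻¹ ∈ A ⊓ B := by
    rw [mem_inf]
    refine ⟨?_, ?_⟩
    · have := (mem_normalizer_iff.mp (hEA (hBE hb)) a⁻¹).mp (inv_mem ha)
      have h2 := mul_mem ha this
      simpa [mul_assoc] using h2
    · have := (mem_normalizer_iff.mp (hEB (hAE ha)) b).mp hb
      exact mul_mem this (inv_mem hb)
  rw [hAB, mem_bot] at h1
  have h2 : a * b = (a * b * a⁻¹ * b⁻¹) * (b * a) := by group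
  rw [h2, h1, one_mul]

theorem tau2_eq [Finite G] (hG : Cfsg.IsMinSimpleOddOrder G) (h16 : T1416 G) (h17 : T1417 G)
    (h18 : T1418 G) {M : Subgroup G} (hM : IsCoatom M) {E : Subgroup G}
    (hE : Cfsg.IsComplIn E (Cfsg.sigmaCore M) M) {p : ℕ} [hpp : Fact p.Prime]
    (hp : p ∈ Cfsg.tau2 M) (hS : ∀ S : Sylow p G, ¬ IsMulCommutative (S : Subgroup G))
    {A : Subgroup G} (hA : A ≤ E ∧ Cfsg.IsElementaryAbelian p A ∧ Nat.card A = p ^ 2) :
    Cfsg.tau2 M = {p} := by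
  ext r
  simp only [Set.mem_singleton_iff]
  constructor
  · intro hr
    by_contra hne
    have : Fact r.Prime := ⟨hr.1⟩
    obtain ⟨B, hB⟩ := exists_ea_sq_in_compl hG hM hE hr
    have hEA := (h18 M hM E hE p hp A hA).1.1
    have hEB := (h18 M hM E hE r hr B hB).1.1
    have hcop : (Nat.card A).Coprime (Nat.card B) := by
      rw [hA.2.2, hB.2.2]
      exact Nat.Coprime.pow _ _ ((Nat.coprime_primes hpp.out hr.1).mpr (Ne.symm hne))
    have hAB : A ⊓ B = ⊥ := (disjoint_of_coprime_natCard hcop).eq_bot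
    have hcomm : B ≤ centralizer (A : Set G) := le_centralizer_of_normalize hA.1 hB.1 hEA hEB hAB
    have hmaxA := (Cfsg.Agent.S1408.result hG M hM p hp.2.1 hp.2.2.1 hp.2.2.2).2 A
      (hA.1.trans hE.1) hA.2.1 hA.2.2
    have hmaxB := (Cfsg.Agent.S1408.result hG M hM r hr.2.1 hr.2.2.1 hr.2.2.2).2 B
      (hB.1.trans hE.1) hB.2.1 hB.2.2
    have hrC : r ∣ Nat.card (centralizer (A : Set G)) :=
      (by rw [hB.2.2]; exact dvd_pow_self r (by norm_num) : r ∣ Nat.card B).trans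
        (card_dvd_of_le hcomm)
    obtain ⟨Q, hQ, hBQ⟩ := exists_maxInv_ge (A := A) (S := B) (q := r) (ea_isPGroup hB.2.1)
      (hA.1.trans hEB)
    obtain ⟨S, -, -, hSc⟩ := Cfsg.Agent.Lib.Helper14.BG11.L109 hG (Ne.symm hne) hA.2.1 hA.2.2
      hmaxA hrC hQ
    have hQr : IsPGroup r Q := (mem_invSubgroups_top_iff.mp hQ.1).1
    have hSM : (S : Subgroup G) ≤ M := by
      intro x hx
      obtain ⟨k, hk⟩ := S.2 ⟨x, hx⟩
      have hk' : x ^ p ^ k = 1 := congrArg Subtype.val hk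
      have h1 := mem_centralizer_of_mem_commutator hG (Ne.symm hne) hQr hBQ hB.2.1 hB.2.2 hmaxB
        (hSc hx) hk'
      exact h16 M hM r B ⟨hB.1.trans hE.1, hB.2.1, hB.2.2⟩ (centralizer_le hBQ h1)
    apply hS S
    exact ⟨⟨fun a b => Subtype.ext (comm_of_isPGroup_sigma' hG h17 hM hp.2.1 hSM S.2 a.2 b.2)⟩⟩
  · rintro rfl
    exact hp

theorem le_normalizer_A₀ {M E A : Subgroup G} (hE : Cfsg.IsComplIn E (Cfsg.sigmaCore M) M)
    (hEA : E ≤ normalizer (A : Set G)) :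
    M ≤ normalizer ((A ⊓ centralizer (Cfsg.sigmaCore M : Set G) : Subgroup G) : Set G) := by
  intro m hm
  obtain ⟨e, he, b, hb, rfl⟩ := hE.2.2.2 m hm
  refine mul_mem ?_ ?_
  · have h1 : E ≤ normalizer ((centralizer (Cfsg.sigmaCore M : Set G) : Subgroup G) : Set G) :=
      (hE.1.trans (le_normalizer_sigmaCore M)).trans
        (Cfsg.Agent.Lib.Helper30.normalizer_le_normalizer_centralizer _)
    exact le_normalizer_inf hEA h1 he
  · apply centralizer_le_normalizer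
    have h2 : A ⊓ centralizer (Cfsg.sigmaCore M : Set G) ≤ centralizer (Cfsg.sigmaCore M : Set G) :=
      inf_le_right
    exact le_centralizer_iff.mp h2 hb

theorem opIn_le_A₀ [Finite G] (hG : Cfsg.IsMinSimpleOddOrder G) {M : Subgroup G} (hM : IsCoatom M)
    {p : ℕ} [hpp : Fact p.Prime] (hp : p ∉ Cfsg.sigma M) {A : Subgroup G}
    (hA : Cfsg.IsElementaryAbelian p A) (hA2 : Nat.card A = p ^ 2)
    (hmax : ∀ B : Subgroup G, Cfsg.IsElementaryAbelian p B → A ≤ B → B = A)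
    {P : Subgroup G} {S : Sylow p G} {s : G} (hP : IsSylowIn p P M) (hAP : A ≤ P)
    (hPS : P ≤ (S : Subgroup G)) (hom : ∀ x ∈ P, x ^ p = 1 ↔ x ∈ A) (hsS : s ∈ (S : Subgroup G))
    (hsM : s ∉ M) {A₀ : Subgroup G} (hA₀ : A ⊓ centralizer (Cfsg.sigmaCore M : Set G) = A₀)
    (hA₀c : Nat.card A₀ = p) (hNA₀ : normalizer (A₀ : Set G) ≤ M) :
    opIn p M ≤ A₀ := by
  have hYP : opIn p M ≤ P := opIn_le_of_isSylowIn hP
  have hpK : ¬ p ∣ Nat.card (Cfsg.sigmaCore M) := fun h =>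
    hp ((sigmaCore_hall hG hM).2.1 p hpp.out h)
  have hdisj : Cfsg.sigmaCore M ⊓ opIn p M = ⊥ := by
    obtain ⟨n, hn⟩ := IsPGroup.iff_card.mp (opIn_isPGroup p M)
    apply (disjoint_of_coprime_natCard _).eq_bot
    rw [hn]
    exact Nat.Coprime.pow_right _ ((Nat.Prime.coprime_iff_not_dvd hpp.out).mpr hpK).symm
  have hYC : opIn p M ≤ centralizer (Cfsg.sigmaCore M : Set G) :=
    le_centralizer_of_normalize (sigmaCore_le M) (opIn_le p M) (le_normalizer_sigmaCore M)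
      (le_normalizer_opIn p M) hdisj
  have hmem : ∀ y ∈ opIn p M, y ^ p = 1 → y ∈ A₀ := by
    intro y hy hyp
    rw [← hA₀]
    exact ⟨(hom y (hYP hy)).mp hyp, hYC hy⟩
  have key : ∀ n : ℕ, ∀ y ∈ opIn p M, y ^ p ^ (n + 1) = 1 → y ^ p = 1 := by
    intro n
    induction n with
    | zero => intro y _ h; simpa using h
    | succ n ih =>
      intro y hy h
      have h1 : (y ^ p) ^ p ^ (n + 1) = 1 := by rw [← pow_mul, ← pow_succ']; exact h
      have h2 := ih (y ^ p) (pow_mem hy p) h1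
      by_contra ha1
      have haA₀ : y ^ p ∈ A₀ := hmem _ (pow_mem hy p) h2
      have haA : y ^ p ∈ A := (hA₀ ▸ haA₀ : y ^ p ∈ A ⊓ centralizer (Cfsg.sigmaCore M : Set G)).1
      have hz : zpowers (y ^ p) = A₀ := by
        apply eq_of_le_of_card_ge (zpowers_le.mpr haA₀)
        rw [hA₀c, Nat.card_zpowers, orderOf_eq_prime h2 ha1]
      have hsa : s * y ^ p ≠ y ^ p * s := by
        intro hc
        apply hsM
        apply hNA₀
        apply centralizer_le_normalizer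
        rw [← hz, mem_centralizer_iff]
        intro x hx
        have h3 : zpowers (y ^ p) ≤ centralizer ({s} : Set G) :=
          zpowers_le.mpr (mem_centralizer_singleton_iff.mpr hc.symm)
        exact mem_centralizer_singleton_iff.mp (h3 hx)
      exact not_pth_power hG S (hAP.trans hPS) hA hA2 hmax haA hsS hsa y (hPS (hYP hy)) rfl
  intro y hy
  obtain ⟨k, hk⟩ := (opIn_isPGroup p M) ⟨y, hy⟩
  have hk' : y ^ p ^ k = 1 := congrArg Subtype.val hk
  exact hmem y hy (key k y hy (by rw [pow_succ, pow_mul, hk', one_pow]))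

/-- B-G Theorem 12.7 (text of S1419) from the texts of S1416, S1417, S1418. -/
theorem S1419_of [Finite G] (hG : Cfsg.IsMinSimpleOddOrder G) (h16 : T1416f G) (h17 : T1417 G)
    (h18 : T1418 G) : T1419 G := by
  intro M hM E hE p hpp hp hS A hA
  have hAM := hA.1.trans hE.1
  have h16' : T1416 G := fun M hM p _ A hA => (h16 M hM p A hA).1
  obtain ⟨hnil, -, -, hCA, -, -⟩ := h17 M hM p hp A ⟨hAM, hA.2.1, hA.2.2⟩
  obtain ⟨⟨hEA, hXA⟩, ⟨-, hMNE, hNnot⟩, huniq⟩ := h18 M hM E hE p hp A hA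
  obtain ⟨hCAM, h16b⟩ := h16 M hM p A ⟨hAM, hA.2.1, hA.2.2⟩
  have hK1 := ms_ne_bot hG hM hE (ne_bot_of_card_sq hA.2.2) hAM hMNE hNnot
  obtain ⟨P, S, s, hP, hAP, hPS, hom, hsS, hsN, hsM⟩ := exists_s h17 hM hp hS hAM hA.2.1 hA.2.2
  obtain ⟨k, hk⟩ := S.2 ⟨s, hsS⟩
  have hsp : s ^ p ^ k = 1 := congrArg Subtype.val hk
  have hsC : s ∉ centralizer (A : Set G) := fun h => hsM (hCAM h)
  obtain ⟨Z, hZA, hZc, hsZ, htr⟩ := transv hA.2.1 hA.2.2 hsN hsC hsp
  obtain ⟨A₀, hA₀A, hA₀c, hNA₀⟩ : ∃ A₀ : Subgroup G, A₀ ≤ A ∧ Nat.card A₀ = p ∧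
      normalizer (A₀ : Set G) ≤ M := by
    by_contra hcon
    push Not at hcon
    exact hp.2.1 (h16b (fun A₀ h1 h2 h3 => hcon A₀ h1 h2 h3.1)).1
  have hreg := reg hG h17 hM hp hAM hA.2.1 hA.2.2 (fun X h1 h2 h3 => (huniq X h1 h2 h3).1) hsN hsM
    hsp hsZ htr hA₀A hA₀c hNA₀
  have hpK : ¬ p ∣ Nat.card (Cfsg.sigmaCore M) := fun h =>
    hp.2.1 ((sigmaCore_hall hG hM).2.1 p hpp.out h)
  have hgen := gen hA.2.1 hA.2.2 hpK (hAM.trans (le_normalizer_sigmaCore M)) hA₀A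
    (fun X h1 h2 h3 => (hreg X h1 h2 h3).1)
  have hA₀ := inf_centralizer_eq hA.2.2 hA₀A hA₀c hK1 hCA hgen
  have htau := tau2_eq hG h16' h17 h18 hM hE hp hS hA
  have hmax := (Cfsg.Agent.S1408.result hG M hM p hp.2.1 hp.2.2.1 hp.2.2.2).2 A hAM hA.2.1 hA.2.2
  have hMA₀ := le_normalizer_A₀ hE hEA
  rw [hA₀] at hMA₀ ⊢
  refine ⟨htau, ⟨hA₀c, ?_⟩, ?_⟩
  · change fitIn M = _
    apply le_antisymm
    · rw [fitIn_eq_iSup_opIn M]
      refine iSup_le fun t => ?_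
      have : Fact (t : ℕ).Prime := ⟨t.2⟩
      by_cases hts : (t : ℕ) ∈ Cfsg.sigma M
      · exact (isPGroup_le_sigmaCore hG hM hts (opIn_le _ M) (opIn_isPGroup _ M)).trans le_sup_left
      · by_cases hT1 : opIn (t : ℕ) M = ⊥
        · rw [hT1]; exact bot_le
        have htt := Cfsg.Agent.Lib.Helper40.BG15.mem_tau2_of_opIn_ne_bot hG (ut hG) hM hts hT1
        rw [htau] at htt
        have htp : (t : ℕ) = p := htt
        rw [htp]
        exact (opIn_le_A₀ hG hM hp.2.1 hA.2.1 hA.2.2 hmax hP hAP hPS hom hsS hsM hA₀ hA₀c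
          hNA₀).trans le_sup_right
    · refine sup_le ?_ ?_
      · exact le_fitIn (sigmaCore_le M) (le_normalizer_sigmaCore M) hnil
      · exact le_fitIn (hA₀A.trans hAM) hMA₀
          (IsPGroup.of_card (n := 1) (by rw [hA₀c, pow_one])).isNilpotent
  · intro X hXE hXc hXne
    have hXA' := hXA X hXE hXc
    obtain ⟨h1, h2⟩ := hreg X hXA' hXc hXne
    refine ⟨h1, ?_⟩
    rcases h2 with rfl | ⟨t, htN, htM, rfl⟩
    · exact fun h => hsM (h hsZ)
    · exact not_le_of_cj hG h17 hM hp hAM hA.2.1 hA.2.2 hK1 hgen htN htM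

end Cfsg.Agent.Lib.Helper13.BG127
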