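import Cfsg.Agent.Lib.Helper24.BG14F
import Cfsg.Agent.Lib.Helper31.BG1435.FROB
import Cfsg.Agent.Lib.Helper30.BG14c
import Cfsg.Agent.Lib.Helper29.BG139F
import Cfsg.Agent.Lib.Helper69.BG36C0
import Cfsg.Agent.S1408
import Cfsg.Agent.S1414
import Cfsg.Agent.S1416
import Cfsg.Agent.S1417
import Cfsg.Agent.S1418
import Cfsg.Agent.S1420
import Cfsg.Agent.S1423
import Cfsg.Agent.S1425
import Cfsg.Agent.S1378

/-!
B-G 14.13 (S1436), rung TAU2 of helper24's ladder: `τ₂(M) = ∅`.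
-/

set_option autoImplicit false

namespace Cfsg.Agent.Lib.Helper13.BG1436

open Subgroup Cfsg.Agent.Lib.Helper30 Cfsg.Agent.Lib.Helper2 Cfsg.Agent.Lib.Helper68
  Cfsg.Agent.Lib.Helper28.BG12 Cfsg.Agent.Lib.Helper24.BG14

universe u

variable {G : Type u} [Group G]

theorem tau2_empty [Finite G] (hG : Cfsg.IsMinSimpleOddOrder G) {M N : Subgroup G} {x : G}
    (hM : IsCoatom M) (hx : x ∈ Cfsg.sigmaCore M) (hx1 : x ≠ 1) (hc : Ctx M N x)
    (hκ : Cfsg.kappa M = ∅)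
    (hβ : ∀ r : ℕ, r ∈ Cfsg.sigma N → r ∣ Nat.card M → r ∈ Cfsg.beta N) {p : ℕ}
    (hp : p ∈ Cfsg.sigma N) (hpM : p ∣ Nat.card M) : Cfsg.tau2 M = ∅ := by
  rw [Set.eq_empty_iff_forall_notMem]
  intro t ht
  have hN := hc.coatom
  have pp : Fact p.Prime := ⟨hp.1⟩
  have tt : Fact t.Prime := ⟨ht.1⟩
  have h78 : T1378 G := (Cfsg.Agent.S1378.result hG).2
  have hnc' : ∀ g : G, M ≠ cj g N := by
    intro g h
    apply hc.nconj g⁻¹
    rw [h, cj_inv_cj]
  have hpσM : p ∉ Cfsg.sigma M := not_mem_sigma_of_nconj h78 hN hM hnc' hp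
  -- `P0`
  obtain ⟨x0', hx0'⟩ := exists_prime_orderOf_dvd_card' (G := M) p hpM
  set x0 : G := x0'.1 with hx0def
  have hx0M : x0 ∈ M := x0'.2
  have hx0o : orderOf x0 = p := by rw [hx0def, Subgroup.orderOf_coe, hx0']
  have hx01 : x0 ≠ 1 := by
    intro h
    rw [h, orderOf_one] at hx0o
    exact pp.out.one_lt.ne hx0o
  set P0 := zpowers x0 with hP0
  have hP0c : Nat.card P0 = p := by rw [hP0, Nat.card_zpowers, hx0o]
  have hP0M : P0 ≤ M := zpowers_le.mpr hx0M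
  have hP01 : P0 ≠ ⊥ := by rwa [hP0, Ne, zpowers_eq_bot]
  have hP0pr : ∀ q : ℕ, q.Prime → q ∣ Nat.card P0 → q = p := by
    intro q hq hqd
    rw [hP0c] at hqd
    exact (Nat.prime_dvd_prime_iff_eq hq pp.out).mp hqd
  obtain ⟨E, hE, hP0E⟩ := exists_compl_ge hG hM hP0M (fun q hq hqd => by
    rw [hP0pr q hq hqd]; exact hpσM)
  obtain ⟨B, hBE, hB, hBc⟩ := exists_ea_sq_in_compl hG hM hE ht
  have hBM : B ≤ M := hBE.trans hE.1
  obtain ⟨⟨hEB, -⟩, -, h18c⟩ := Cfsg.Agent.S1418.result hG M hM E hE t ht B ⟨hBE, hB, hBc⟩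
  obtain ⟨hnil, -, -, hMB, -, -⟩ := Cfsg.Agent.S1417.result hG M hM t ht B ⟨hBM, hB, hBc⟩
  -- (1)
  have hpβ : p ∈ Cfsg.beta N := hβ p hp hpM
  have hpr1 : Cfsg.PRankLE p 1 M := by
    by_contra h
    exact (Cfsg.Agent.S1408.result hG M hM p hpσM
      (pRankLE_two_of_not_mem_sigma hG hM pp.out hpσM) h).1 hpβ.2
  have hMP0 : Cfsg.sigmaCore M ⊓ centralizer (P0 : Set G) = ⊥ := by
    rw [eq_bot_iff]
    intro y hy
    rw [mem_bot]
    by_contra hy1
    have h1 : p ∈ Cfsg.kappa M := mem_kappa_of hG hpσM hpr1 hx0M hx0o hy.1 hy1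
      (mem_centralizer_iff.mp hy.2 x0 (mem_zpowers x0))
    rw [hκ] at h1
    exact h1
  -- (2)
  have htM : t ∣ Nat.card M := by
    have h1 : t ∣ Nat.card B := by rw [hBc]; exact dvd_pow_self t (by norm_num)
    exact h1.trans (card_dvd_of_le hBM)
  have htσN : t ∉ Cfsg.sigma N := by
    intro h
    exact (Cfsg.Agent.S1408.result hG M hM t ht.2.1 ht.2.2.1 ht.2.2.2).1 (hβ t h htM).2
  -- (3)
  obtain ⟨g, hg⟩ := Cfsg.Agent.S1425.result hG N hN P0 hP01 (fun q hq hqd => by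
    rw [hP0pr q hq hqd]; exact hp)
  set P1 := cj g P0 with hP1
  have hP1σ : P1 ≤ Cfsg.sigmaCore N := hg
  have hP1N : P1 ≤ N := hP1σ.trans (sigmaCore_le N)
  have hP1c : Nat.card P1 = p := by rw [hP1, card_cj, hP0c]
  have hCP1 : centralizer (P1 : Set G) ≤ N :=
    (Cfsg.Agent.S1423.result hG N hN p hp P1 hP1N hP1c default (Or.inl hpβ)).1.1
  have hy0 : g * x0 * g⁻¹ ∈ P1 := conj_mem_cj (mem_zpowers x0)
  have hy01 : g * x0 * g⁻¹ ≠ 1 := conj_ne_one hx01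
  -- (4)
  have h4 : ¬ cj g B ≤ N := by
    intro h
    have hτ : t ∈ Cfsg.tau2 N := Cfsg.Agent.Lib.Helper30.BG14.mem_tau2_of_ea_sq hG hN htσN h (ea_cj hB g)
      (by rw [card_cj, hBc])
    have he := (Cfsg.Agent.S1417.result hG N hN t hτ (cj g B)
      ⟨h, ea_cj hB g, by rw [card_cj, hBc]⟩).2.2.2.2.1 (cj g M) (Cfsg.Agent.Lib.Helper24.BG14.isCoatom_cj hM g)
      (fun h' => hc.nconj g h'.symm) (cj_mono g hBM)
    have h1 : g * x0 * g⁻¹ ∈ Cfsg.sigmaCore N ⊓ cj g M := ⟨hP1σ hy0, conj_mem_cj hx0M⟩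
    rw [he, mem_bot] at h1
    exact hy01 h1
  -- (5)
  have hP0B : P0 ≤ normalizer (B : Set G) := hP0E.trans hEB
  have hpt : p ≠ t := by
    rintro rfl
    exact htσN hp
  have hcop : (Nat.card P0).Coprime (Nat.card B) := by
    rw [hP0c, hBc]
    exact Nat.Coprime.pow_right 2 ((Nat.coprime_primes pp.out tt.out).mpr hpt)
  have hBcomm : IsMulCommutative B := hB.1
  have hMsolv : Group.IsSolvable M := solvable_of_ne_top hG hM.1
  have hP0solv : Group.IsSolvable P0 := isSolvable_of_le hP0M hMsolv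
  set B1 := ⁅B, P0⁆ with hB1
  have hsup : B1 ⊔ (B ⊓ centralizer (P0 : Set G)) = B :=
    commutator_sup_centralizer hP0B hcop (Or.inl hP0solv)
  have hinf : B1 ⊓ centralizer (P0 : Set G) = ⊥ :=
    Cfsg.Agent.Lib.Helper69.commutator_inf_centralizer_eq_bot B P0 hBcomm hP0B hcop.symm
  have hB1B : B1 ≤ B := commutator_le_of_le_normalizer hP0B
  have hMσn := le_normalizer_sigmaCore M
  have hB1nil : Group.IsNilpotent B1 := by
    have : IsMulCommutative B1 := ⟨⟨fun a b => Subtype.ext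
      (Cfsg.Agent.Lib.Helper30.comm_of_isMulCommutative hBcomm (hB1B a.2) (hB1B b.2))⟩⟩
    let _ : CommGroup B1 := { (inferInstance : Group B1) with mul_comm := fun a b => this.1.1 a b }
    infer_instance
  have hcopE : (Nat.card (Cfsg.sigmaCore M)).Coprime (Nat.card E) :=
    Nat.coprime_of_dvd (fun k hk h1 h2 =>
      not_mem_sigma_of_dvd_compl hG hM hE hk h2 ((sigmaCore_hall hG hM).2.1 k hk h1))
  have hfrob : Cfsg.sigmaCore M ≤ centralizer (B1 : Set G) :=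
    Cfsg.Agent.Lib.Helper31.BG1435.frob (U := B1) (E := P0) (H := Cfsg.sigmaCore M)
      (le_normalizer_commutator hP0B le_normalizer) hB1nil hinf (by rw [hP0c]; exact pp.out)
      ((hB1B.trans hBM).trans hMσn) (hP0M.trans hMσn)
      (isSolvable_of_le (sigmaCore_le M) hMsolv)
      (hcopE.coprime_dvd_right (card_dvd_of_le (sup_le (hB1B.trans hBE) hP0E))) hMP0
  -- (6)
  have h6a : B ⊓ centralizer (P0 : Set G) ≠ ⊥ := by
    intro h
    rw [h, sup_bot_eq] at hsup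
    have h1 : x ∈ Cfsg.sigmaCore M ⊓ centralizer (B : Set G) := ⟨hx, by rw [← hsup]; exact hfrob hx⟩
    rw [hMB, mem_bot] at h1
    exact hx1 h1
  have h6b : B1 ≠ ⊥ := by
    intro h
    rw [h, bot_sup_eq] at hsup
    apply h4
    have h1 : B ≤ centralizer (P0 : Set G) := by rw [← hsup]; exact inf_le_right
    have h2 := cj_mono g h1
    rw [← centralizer_cj] at h2
    exact h2.trans hCP1
  obtain ⟨⟨b0, hb0⟩, hb01⟩ := Subgroup.ne_bot_iff_exists_ne_one.mp h6a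
  obtain ⟨⟨b1, hb1⟩, hb11⟩ := Subgroup.ne_bot_iff_exists_ne_one.mp h6b
  have hb01' : b0 ≠ 1 := fun h => hb01 (Subtype.ext h)
  have hb11' : b1 ≠ 1 := fun h => hb11 (Subtype.ext h)
  have hord : ∀ b ∈ B, b ≠ 1 → orderOf b = t := by
    intro b hb hb1
    exact orderOf_eq_prime (hB.2 b hb) hb1
  have hb0o := hord b0 hb0.1 hb01'
  have hb1o := hord b1 (hB1B hb1) hb11'
  -- (7)
  have hb1x : b1 * x = x * b1 := mem_centralizer_iff.mp (hfrob hx) b1 hb1
  have hCb1 : centralizer ((zpowers b1 : Subgroup G) : Set G) ≤ M := by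
    refine (h18c (zpowers b1) (zpowers_le.mpr (hB1B hb1)) (by rw [Nat.card_zpowers, hb1o]) ?_).1
    intro h
    have h1 : x ∈ Cfsg.sigmaCore M ⊓ centralizer ((zpowers b1 : Subgroup G) : Set G) := by
      refine mem_inf.mpr ⟨hx, ?_⟩
      rw [mem_centralizer_iff]
      rintro z ⟨k, rfl⟩
      exact ((show Commute b1 x from hb1x).zpow_left k).eq
    rw [h, mem_bot] at h1
    exact hx1 h1
  have hb1N : b1 ∈ N := hc.cent_le (mem_centralizer_singleton_iff.mpr hb1x)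
  have h7 : ∀ y ∈ Cfsg.sigmaCore N, b1 * y = y * b1 → y = 1 := by
    intro y hy hyb
    have h1 : y ∈ Cfsg.sigmaCore N ⊓ M := by
      refine mem_inf.mpr ⟨hy, hCb1 ?_⟩
      rw [mem_centralizer_iff]
      rintro z ⟨k, rfl⟩
      exact ((show Commute b1 y from hyb).zpow_left k).eq
    rw [hc.disj, mem_bot] at h1
    exact h1
  -- (8)
  set c := g * b0 * g⁻¹ with hcdef
  have hcc : c * (g * x0 * g⁻¹) = (g * x0 * g⁻¹) * c := by
    have h1 : x0 * b0 = b0 * x0 := mem_centralizer_iff.mp hb0.2 x0 (mem_zpowers x0)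
    calc c * (g * x0 * g⁻¹) = g * (b0 * x0) * g⁻¹ := by rw [hcdef]; group
      _ = g * (x0 * b0) * g⁻¹ := by rw [h1]
      _ = (g * x0 * g⁻¹) * c := by rw [hcdef]; group
  have hcN : c ∈ N := by
    apply hCP1
    have h1 : c ∈ cj g (centralizer (P0 : Set G)) := conj_mem_cj hb0.2
    rwa [← centralizer_cj] at h1
  have hco : orderOf c = t := by
    rw [hcdef, ← hb0o]
    exact orderOf_conj g b0
  have hc1 : c ≠ 1 := conj_ne_one hb01'
  have htτN : t ∉ Cfsg.tau2 N := by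
    intro hτ
    have h1 := ((Cfsg.Agent.S1420.result hG N hN (M ⊓ N) hc.compl).2.2.2 c hcN hc1
      (fun q hq hqd => by
        rw [hco] at hqd
        rw [(Nat.prime_dvd_prime_iff_eq hq tt.out).mp hqd]; exact hτ)
      ⟨hcN, g * x0 * g⁻¹, hP1σ hy0, hy01, hcc⟩).1
    apply h4
    intro b hb
    apply h1
    rw [mem_centralizer_singleton_iff]
    have h2 : IsMulCommutative (cj g B) := (ea_cj hB g).1
    exact Cfsg.Agent.Lib.Helper30.comm_of_isMulCommutative h2 hb (conj_mem_cj hb0.1)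
  have htκ : t ∈ Cfsg.kappa N :=
    Cfsg.Agent.Lib.Helper30.BG14.mem_kappa_of_centralizes hG hN htσN htτN (hP1σ hy0) hy01 hcN hco hcc
  -- (9)
  have hZ : IsPGroup t (zpowers (⟨b1, hb1N⟩ : ↥N)) := by
    apply IsPGroup.of_card (n := 1)
    rw [Nat.card_zpowers, Subgroup.orderOf_mk, hb1o, pow_one]
  obtain ⟨T, hT⟩ := hZ.exists_le_sylow
  obtain ⟨hTc, x', hx'T, hx'1, y, hy, hy1, hx'y⟩ := htκ.2.2.2 T
  have hbT : (⟨b1, hb1N⟩ : ↥N) ∈ (T : Subgroup ↥N) := hT (mem_zpowers _)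
  have hdvd : orderOf (⟨⟨b1, hb1N⟩, hbT⟩ : ↥(T : Subgroup ↥N)) ∣
      orderOf (⟨x', hx'T⟩ : ↥(T : Subgroup ↥N)) := by
    rw [Subgroup.orderOf_mk, Subgroup.orderOf_mk, Subgroup.orderOf_mk, hb1o]
    obtain ⟨k, hk⟩ := (IsPGroup.iff_orderOf.mp T.2) ⟨x', hx'T⟩
    rw [Subgroup.orderOf_mk] at hk
    rw [hk]
    apply dvd_pow_self
    rintro rfl
    rw [pow_zero, orderOf_eq_one_iff] at hk
    exact hx'1 hk
  have hmem := Cfsg.Agent.Lib.Helper29.BG139.mem_zpowers_of_orderOf_dvd_cyc _ _ hdvd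
  obtain ⟨k, hk⟩ := hmem
  have hk' : (x' : G) ^ k = b1 := by
    have := congrArg (fun z : ↥(T : Subgroup ↥N) => ((z : ↥N) : G)) hk
    simpa using this
  apply hy1
  apply h7 y hy
  rw [← hk']
  exact ((show Commute (x' : G) y from hx'y).zpow_left k).eq

end Cfsg.Agent.Lib.Helper13.BG1436
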