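import Cfsg.Agent.Lib.Helper28.BG12b
import Cfsg.Agent.Lib.Helper30.BGBeta1
import Cfsg.Agent.Lib.Helper13.BG153.HFUS
import Cfsg.Agent.S1947
import Cfsg.Agent.S1474

/-!
B-G Lemma 15.3 (statement S1438) from the texts of S1374, S1417-S1419, S1430-S1432, S1437.
-/

set_option autoImplicit false

namespace Cfsg.Agent.Lib.Helper13.BG153

open Subgroup Cfsg.Agent.Lib.Helper30 Cfsg.Agent.Lib.Helper2 Cfsg.Agent.Lib.Helper68
  Cfsg.Agent.Lib.Helper28 Cfsg.Agent.Lib.Helper28.BG12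

universe u

variable {G : Type u} [Group G]

/-- the part of the text of S1430 used here. -/
def T30 (G : Type u) [Group G] : Prop :=
  ∀ (M : Subgroup G), IsCoatom M → ∀ K : Subgroup G, Cfsg.IsPiHallOf (Cfsg.kappa M) K M → K ≠ ⊥ →
    ∀ k ∈ K, k ≠ 1 → Cfsg.sigmaCore M ⊓ centralizer ({k} : Set G) =
      Cfsg.sigmaCore M ⊓ centralizer (K : Set G)

/-- the part of the text of S1431 used here. -/
def T31 (G : Type u) [Group G] : Prop :=
  ∀ (M : Subgroup G), IsCoatom M → ∀ K : Subgroup G, Cfsg.IsPiHallOf (Cfsg.kappa M) K M → K ≠ ⊥ →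
    ∀ (p : ℕ), p.Prime → p ∣ Nat.card ↥(Cfsg.sigmaCore M ⊓ centralizer (K : Set G)) →
      ∀ S : Sylow p ↥(Cfsg.sigmaCore M),
        ¬ (S : Subgroup ↥(Cfsg.sigmaCore M)).map (Cfsg.sigmaCore M).subtype ≤
          Cfsg.sigmaCore M ⊓ centralizer (K : Set G)

/-- the part of the text of S1432 used here. -/
def T32 (G : Type u) [Group G] : Prop :=
  ∀ (M : Subgroup G), IsCoatom M → ∀ x ∈ Cfsg.sigmaCore M, x ≠ 1 →
    ∀ x' ∈ M ⊓ centralizer ({x} : Set G), x' ≠ 1 →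
    (∀ p : ℕ, p.Prime → p ∣ orderOf x' → p ∉ Cfsg.sigma M) →
    (∀ p : ℕ, p.Prime → p ∣ orderOf x' → p ∈ Cfsg.kappa M) ∨
      (∀ p : ℕ, p.Prime → p ∣ orderOf x' → p ∈ Cfsg.tau2 M)

/-- primes of a `σ(M)'`-subgroup of `C_M(H)` lie in `τ₂(M)`. -/
theorem mem_tau2_of_centralizes [Finite G] (hG : Cfsg.IsMinSimpleOddOrder G) (h30 : T30 G)
    (h31 : T31 G) (h32 : T32 G) {M : Subgroup G} (hM : IsCoatom M) {H : Subgroup G}
    (hH : H ≤ Cfsg.sigmaCore M) (hH1 : H ≠ ⊥)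
    (hHall : (Nat.card H).Coprime (H.relIndex (Cfsg.sigmaCore M))) {x' : G} (hx'M : x' ∈ M)
    (hx'C : x' ∈ centralizer (H : Set G)) {r : ℕ} (hr : r.Prime) (hx'o : orderOf x' = r)
    (hrσ : r ∉ Cfsg.sigma M) : r ∈ Cfsg.tau2 M := by
  obtain ⟨⟨x, hxH⟩, hx1'⟩ := Subgroup.ne_bot_iff_exists_ne_one.mp hH1
  have hx1 : x ≠ 1 := fun h => hx1' (Subtype.ext h)
  have hx'1 : x' ≠ 1 := by
    rintro rfl
    rw [orderOf_one] at hx'o
    exact hr.one_lt.ne hx'o
  have hprime : ∀ p : ℕ, p.Prime → p ∣ orderOf x' → p = r := by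
    intro p hp hpd
    rw [hx'o] at hpd
    exact (Nat.prime_dvd_prime_iff_eq hp hr).mp hpd
  have hcomm : x' ∈ centralizer ({x} : Set G) := by
    rw [mem_centralizer_singleton_iff]
    exact (mem_centralizer_iff.mp hx'C x hxH).symm
  rcases h32 M hM x (hH hxH) hx1 x' ⟨hx'M, hcomm⟩ hx'1
    (fun p hp hpd => by rw [hprime p hp hpd]; exact hrσ) with h | h
  · exfalso
    have hrκ : r ∈ Cfsg.kappa M := h r hr (by rw [hx'o])
    obtain ⟨K, hK, -, hxK⟩ := Cfsg.Agent.Lib.Helper66.exists_invariant_isPiHallOf_ge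
      (π := Cfsg.kappa M) (A := ⊥) (G := M) (U := zpowers x') bot_le (by simp)
      (solvable_of_ne_top hG hM.1) (zpowers_le.mpr hx'M) bot_le (fun p hp hpd => by
        rw [Nat.card_zpowers] at hpd
        rw [hprime p hp hpd]; exact hrκ)
    have hx'K : x' ∈ K := hxK (mem_zpowers x')
    have hK1 : K ≠ ⊥ := by
      rintro rfl
      exact hx'1 (mem_bot.mp hx'K)
    have h1 := h30 M hM K hK hK1 x' hx'K hx'1
    have hHK : H ≤ Cfsg.sigmaCore M ⊓ centralizer (K : Set G) := by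
      rw [← h1]
      refine le_inf hH ?_
      intro y hy
      rw [mem_centralizer_singleton_iff]
      exact (mem_centralizer_iff.mp hx'C y hy)
    have hHc : Nat.card H ≠ 1 := fun h => hH1 (card_eq_one.mp h)
    obtain ⟨p, hp, hpd⟩ := Nat.exists_prime_and_dvd hHc
    have : Fact p.Prime := ⟨hp⟩
    obtain ⟨S₀, hS₀⟩ := exists_isSylowIn p H
    have hS₀' : IsSylowIn p S₀ (Cfsg.sigmaCore M) := by
      refine ⟨hS₀.le.trans hH, hS₀.isPGroup, ?_⟩
      rw [← relIndex_mul_relIndex S₀ H _ hS₀.le hH]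
      intro hd
      rcases (Nat.Prime.dvd_mul hp).mp hd with hd | hd
      · exact hS₀.not_dvd hd
      · exact hp.one_lt.ne' (Nat.Coprime.eq_one_of_dvd
          (Nat.Coprime.coprime_dvd_left hpd hHall) hd)
    obtain ⟨S, hS⟩ := hS₀'.exists_sylow
    apply h31 M hM K hK hK1 p hp (hpd.trans (card_dvd_of_le hHK)) S
    rw [hS]
    exact hS₀.le.trans hHK
  · exact h r hr (by rw [hx'o])

/-- a `τ₂(M)`-subgroup of `M` centralizing a nontrivial subgroup of `M_σ` is cyclic. -/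
theorem isCyclic_of_tau2 [Finite G] (hG : Cfsg.IsMinSimpleOddOrder G) (h17 : T1417 G)
    (h18 : T1418 G) (h19 : T1419 G) {M : Subgroup G} (hM : IsCoatom M) {H : Subgroup G}
    (hH : H ≤ Cfsg.sigmaCore M) (hH1 : H ≠ ⊥) {X : Subgroup G} (hXM : X ≤ M)
    (hXC : X ≤ centralizer (H : Set G))
    (hX : ∀ r : ℕ, r.Prime → r ∣ Nat.card X → r ∈ Cfsg.tau2 M) : IsCyclic X := by
  obtain ⟨E, hE, hXE⟩ := exists_compl_ge hG hM hXM (fun q hq hqd => (hX q hq hqd).2.1)
  have hnil : Group.IsNilpotent ↥X := by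
    apply isNilpotent_of_forall_hasNormalPComplement
    intro p hp hpd
    have : Fact p.Prime := ⟨hp⟩
    have hpτ := hX p hp hpd
    have hp2 : p ≠ 2 := ne_two_of_dvd_card hG (hpd.trans (card_subgroup_dvd_card X))
    obtain ⟨A, hA⟩ := exists_ea_sq_in_compl hG hM hE hpτ
    have hXA := tau2_elt_centralizes hG h17 h18 h19 hM hE hpτ hA hXE hX
    apply Cfsg.Agent.S1947.result 1
    intro a ha
    have hap : a ^ p = 1 := by
      rcases ha with h | ⟨h, -⟩
      · exact h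
      · exact absurd h hp2
    rw [Subgroup.upperCentralSeries_one, mem_center_iff]
    intro g
    by_cases ha1 : a = 1
    · rw [ha1, mul_one, one_mul]
    have hap' : (a : G) ^ p = 1 := congrArg Subtype.val hap
    have ha1' : (a : G) ≠ 1 := fun h => ha1 (Subtype.ext h)
    have hc : Nat.card (zpowers (a : G)) = p := by
      rw [Nat.card_zpowers, orderOf_eq_prime hap' ha1']
    have haA : (a : G) ∈ A :=
      (h18 M hM E hE p hpτ A hA).1.2 (zpowers (a : G)) (zpowers_le.mpr (hXE a.2)) hc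
        (mem_zpowers _)
    apply Subtype.ext
    exact (mem_centralizer_iff.mp (hXA g.2) a haA).symm
  have hZ : IsZGroup ↥X := by
    refine ⟨fun p hp P => ?_⟩
    have : Fact p.Prime := ⟨hp⟩
    by_contra hnc
    have hnc' : ¬ IsCyclic ↥((P : Subgroup ↥X).map X.subtype) := by
      intro h
      exact hnc (isCyclic_of_surjective _
        ((P : Subgroup ↥X).equivMapOfInjective _ X.subtype_injective).symm.surjective)
    have hP1 : (P : Subgroup ↥X).map X.subtype ≠ ⊥ := by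
      intro h
      rw [h] at hnc'
      exact hnc' inferInstance
    have hPp : IsPGroup p ↥((P : Subgroup ↥X).map X.subtype) := P.2.map _
    have hPX : (P : Subgroup ↥X).map X.subtype ≤ X := map_subtype_le _
    have hpd : p ∣ Nat.card X := (dvd_card_of_isPGroup_ne_bot hPp hP1).trans (card_dvd_of_le hPX)
    obtain ⟨A, hAP, hA, hAc⟩ := exists_ea_sq_of_not_cyclic (ne_two_of_isPGroup hG hPp hP1) hPp hnc'
    have h1 := (h17 M hM p (hX p hp hpd) A ⟨(hAP.trans hPX).trans hXM, hA, hAc⟩).2.2.2.1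
    apply hH1
    rw [eq_bot_iff, ← h1]
    exact le_inf hH (le_centralizer_iff.mp ((hAP.trans hPX).trans hXC))
  infer_instance

theorem part_a [Finite G] (hG : Cfsg.IsMinSimpleOddOrder G) (h17 : T1417 G)
    (h18 : T1418 G) (h19 : T1419 G) (h30 : T30 G) (h31 : T31 G) (h32 : T32 G) {M : Subgroup G}
    (hM : IsCoatom M) {H : Subgroup G} (hH : H ≤ Cfsg.sigmaCore M) (hH1 : H ≠ ⊥)
    (hHall : (Nat.card H).Coprime (H.relIndex (Cfsg.sigmaCore M))) :
    ∃ X : Subgroup G, IsCyclic X ∧ (∀ p : ℕ, p.Prime → p ∣ Nat.card X → p ∈ Cfsg.tau2 M) ∧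
        M ⊓ centralizer (H : Set G) = (Cfsg.sigmaCore M ⊓ centralizer (H : Set G)) ⊔ X := by
  have hMs := solvable_of_ne_top hG hM.1
  have hCs : Group.IsSolvable ↥(M ⊓ centralizer (H : Set G)) :=
    Group.isSolvable_of_isSolvable_injective
      (inclusion_injective (inf_le_left : M ⊓ centralizer (H : Set G) ≤ M))
  obtain ⟨X, hX, -, -⟩ := Cfsg.Agent.Lib.Helper66.exists_invariant_isPiHallOf_ge
    (π := (Cfsg.sigma M)ᶜ) (A := ⊥) (G := M ⊓ centralizer (H : Set G)) (U := ⊥) bot_le (by simp)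
    hCs bot_le bot_le (fun p hp hpd => by
      rw [card_bot] at hpd
      exact absurd (Nat.dvd_one.mp hpd) hp.one_lt.ne')
  have hXM : X ≤ M := hX.1.trans inf_le_left
  have hXC : X ≤ centralizer (H : Set G) := hX.1.trans inf_le_right
  have hτ : ∀ r : ℕ, r.Prime → r ∣ Nat.card X → r ∈ Cfsg.tau2 M := by
    intro r hr hrd
    have : Fact r.Prime := ⟨hr⟩
    obtain ⟨x', hx'⟩ := exists_prime_orderOf_dvd_card' (G := X) r hrd
    exact mem_tau2_of_centralizes hG h30 h31 h32 hM hH hH1 hHall (hXM x'.2) (hXC x'.2) hr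
      (by rw [Subgroup.orderOf_coe, hx']) (hX.2.1 r hr hrd)
  refine ⟨X, isCyclic_of_tau2 hG h17 h18 h19 hM hH hH1 hXM hXC hτ, hτ,
    le_antisymm ?_ (sup_le (inf_le_inf_right _ (sigmaCore_le M)) hX.1)⟩
  apply le_of_forall_isSylowIn
  intro r hr hrd
  by_cases hrσ : r ∈ Cfsg.sigma M
  · obtain ⟨S, hS⟩ := exists_isSylowIn r (M ⊓ centralizer (H : Set G))
    refine ⟨S, hS, le_trans (le_inf ?_ (hS.le.trans inf_le_right)) le_sup_left⟩
    exact isPGroup_le_sigmaCore hG hM hrσ (hS.le.trans inf_le_left) hS.isPGroup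
  · obtain ⟨S, hS⟩ := exists_isSylowIn r X
    refine ⟨S, ⟨hS.le.trans hX.1, hS.isPGroup, ?_⟩, hS.le.trans le_sup_right⟩
    rw [← relIndex_mul_relIndex S X _ hS.le hX.1]
    intro hd
    rcases (Nat.Prime.dvd_mul hr.out).mp hd with hd | hd
    · exact hS.not_dvd hd
    · exact hX.2.2 r hr.out hrσ hd

/-- the part of the text of S1374 used here. -/
def T74 (G : Type u) [Group G] : Prop :=
  ∀ (M : Subgroup G), IsCoatom M → ∀ x ∈ Cfsg.sigmaCore M, x ≠ 1 → ∀ g : G, x ∈ cj g M →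
    ∃ r ∈ centralizer ({x} : Set G), cj r M = cj g M

/-- the part of the text of S1437 used here. -/
def T37 (G : Type u) [Group G] : Prop :=
  ∀ (M : Subgroup G), IsCoatom M → ¬ Group.IsNilpotent ↥(Cfsg.sigmaCore M) →
    ∃ (q : ℕ) (Q : Subgroup G), q.Prime ∧ Q ≤ Cfsg.sigmaCore M ∧ M ≤ normalizer (Q : Set G) ∧
      IsPGroup q Q ∧ ¬ q ∣ Q.relIndex (Cfsg.sigmaCore M) ∧
      ∀ D : Subgroup G, Cfsg.IsComplIn Q D (Cfsg.sigmaCore M) → Group.IsNilpotent D

theorem exists_split [Finite G] (h37 : T37 G) {M : Subgroup G} (hM : IsCoatom M) :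
    ∃ (q : ℕ) (Q D : Subgroup G), q.Prime ∧ M ≤ normalizer (Q : Set G) ∧ IsPGroup q Q ∧
      Cfsg.IsComplIn Q D (Cfsg.sigmaCore M) ∧ (Nat.card D).Coprime q ∧ Group.IsNilpotent D := by
  by_cases hnil : Group.IsNilpotent ↥(Cfsg.sigmaCore M)
  · obtain ⟨q, hq1, hq⟩ := Nat.exists_infinite_primes (Nat.card G + 1)
    refine ⟨q, ⊥, Cfsg.sigmaCore M, hq, ?_, IsPGroup.of_bot,
      ⟨bot_le, le_rfl, bot_inf_eq _, fun l hl => ⟨1, one_mem _, l, hl, (one_mul l).symm⟩⟩, ?_, hnil⟩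
    · intro x _
      rw [mem_normalizer_iff]
      intro y
      simp [mem_bot]
    · apply Nat.Coprime.symm
      rw [Nat.Prime.coprime_iff_not_dvd hq]
      apply Nat.not_dvd_of_pos_of_lt Nat.card_pos
      have := card_le_card_group (Cfsg.sigmaCore M)
      omega
  · obtain ⟨q, Q, hq, hQL, hMQ, hQ, hQi, hD⟩ := h37 M hM hnil
    have : Fact q.Prime := ⟨hq⟩
    have hn : (Q.subgroupOf (Cfsg.sigmaCore M)).Normal :=
      normal_subgroupOf_of_le_normalizer ((sigmaCore_le M).trans hMQ)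
    obtain ⟨k, hk⟩ := IsPGroup.iff_card.mp hQ
    have hcop : (Nat.card ↥(Q.subgroupOf (Cfsg.sigmaCore M))).Coprime
        (Q.subgroupOf (Cfsg.sigmaCore M)).index := by
      rw [card_subgroupOf hQL, hk]
      exact Nat.Coprime.pow_left _ ((Nat.Prime.coprime_iff_not_dvd hq).mpr hQi)
    obtain ⟨D', hD'⟩ := exists_right_complement'_of_coprime hcop
    have hc := isComplIn_of_isComplement' hQL hD'
    refine ⟨q, Q, _, hq, hMQ, hQ, hc, ?_, hD _ hc⟩
    rw [card_map_of_injective (subtype_injective _), ← hD'.symm.index_eq_card]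
    exact ((Nat.Prime.coprime_iff_not_dvd hq).mpr hQi).symm

theorem part_b [Finite G] (hG : Cfsg.IsMinSimpleOddOrder G) (h74 : T74 G) (h37 : T37 G)
    {M : Subgroup G} (hM : IsCoatom M) {H : Subgroup G} (hH : H ≤ Cfsg.sigmaCore M)
    (hHall : (Nat.card H).Coprime (H.relIndex (Cfsg.sigmaCore M))) :
    ∀ x ∈ H, ∀ g : G, g * x * g⁻¹ ∈ H →
      ∃ n ∈ M ⊓ normalizer (H : Set G), n * x * n⁻¹ = g * x * g⁻¹ := by
  intro x hx g hg
  by_cases hx1 : x = 1
  · subst hx1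
    exact ⟨1, one_mem _, by simp⟩
  have hM1 : M ≠ ⊥ := by
    rintro rfl
    exact hx1 (mem_bot.mp (sigmaCore_le _ (hH hx)))
  have hxg : x ∈ cj g⁻¹ M := by
    rw [mem_cj]
    simpa using sigmaCore_le M (hH hg)
  obtain ⟨r, hr, hrM⟩ := h74 M hM x (hH hx) hx1 g⁻¹ hxg
  have hm : g * r ∈ M := by
    have h0 : cj (g * r) M = M := by rw [cj_mul, hrM, cj_cj_inv]
    have h1 := mem_normalizer_of_cj_eq h0
    rwa [normalizer_eq_of_coatom hG hM hM1 le_rfl le_normalizer] at h1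
  have hrx : r * x = x * r := mem_centralizer_singleton_iff.mp hr
  have hconj : (g * r) * x * (g * r)⁻¹ = g * x * g⁻¹ := by
    calc (g * r) * x * (g * r)⁻¹ = g * (r * x) * r⁻¹ * g⁻¹ := by group
      _ = g * x * g⁻¹ := by rw [hrx]; group
  obtain ⟨q, Q, D, hq, hMQ, hQ, hc, hDq, hD⟩ := exists_split h37 hM
  have : Fact q.Prime := ⟨hq⟩
  obtain ⟨n, hn, hnx⟩ := fusion_of_split (solvable_of_ne_top hG hM.1) (sigmaCore_le M)
    (le_normalizer_sigmaCore M) hMQ hQ hc hDq hD hH hHall x hx (g * r) hm (hconj ▸ hg)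
  exact ⟨n, hn, hnx.trans hconj⟩

end Cfsg.Agent.Lib.Helper13.BG153
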