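import Mathlib
import Cfsg.Agent.Lib.Helper57.Replacement
import Cfsg.Agent.Lib.Helper67.Conj

/-!
# Derived subgroup of `P = N⟨x⟩`

For `N` normal in the finite group `P` with `N ⊔ ⟨x⟩ = ⊤`:
`#{n ∈ N | [x,n] ∈ N'} * #P' = #N * #N'`  (Isaacs 12.12 when `N` is abelian).
-/

set_option autoImplicit false

namespace Cfsg.Agent.Lib.Helper13

open Cfsg.Agent.Lib.Helper67
open scoped commutatorElement

variable {P : Type*} [Group P]

/-- the homomorphism `n ↦ [x,n] N'` from `N` to `N/N'`. -/
noncomputable def commHom (N : Subgroup P) [N.Normal] (x : P) : ↥N →* Abelianization ↥N :=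
  (Abelianization.of.comp (MulAut.conjNormal x : MulAut ↥N).toMonoidHom) * (Abelianization.of)⁻¹

theorem commHom_apply (N : Subgroup P) [N.Normal] (x : P) (n : ↥N) :
    commHom N x n = Abelianization.of ((MulAut.conjNormal x : MulAut ↥N) n * n⁻¹) := by
  simp [commHom]

theorem mem_ker_commHom (N : Subgroup P) [N.Normal] (x : P) (n : ↥N) :
    n ∈ (commHom N x).ker ↔ x * n * x⁻¹ * (n : P)⁻¹ ∈ (commutator ↥N).map N.subtype := by
  rw [MonoidHom.mem_ker, commHom_apply]
  have h1 : x * n * x⁻¹ * (n : P)⁻¹ = N.subtype ((MulAut.conjNormal x : MulAut ↥N) n * n⁻¹) := by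
    simp
  rw [h1, Subgroup.mem_map_iff_mem N.subtype_injective]
  exact QuotientGroup.eq_one_iff _

/-- the subgroup `[N,x]N'` of `P`. -/
noncomputable def commSub (N : Subgroup P) [N.Normal] (x : P) : Subgroup P :=
  ((commHom N x).range.comap Abelianization.of).map N.subtype

theorem commutator_le_commSub (N : Subgroup P) [N.Normal] (x : P) : ⁅N, N⁆ ≤ commSub N x := by
  rw [← Subgroup.map_subtype_commutator]
  apply Subgroup.map_mono
  intro d hd
  rw [Subgroup.mem_comap]
  have : Abelianization.of d = 1 := (QuotientGroup.eq_one_iff d).mpr hd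
  rw [this]
  exact Subgroup.one_mem _

theorem comm_mem_commSub (N : Subgroup P) [N.Normal] (x : P) {n : P} (hn : n ∈ N) :
    x * n * x⁻¹ * n⁻¹ ∈ commSub N x := by
  refine ⟨(MulAut.conjNormal x : MulAut ↥N) ⟨n, hn⟩ * ⟨n, hn⟩⁻¹, ?_, by simp⟩
  rw [SetLike.mem_coe, Subgroup.mem_comap, ← commHom_apply]
  exact ⟨_, rfl⟩

theorem commSub_le_commutator (N : Subgroup P) [N.Normal] (x : P) : commSub N x ≤ commutator P := by
  rintro _ ⟨n, hn, rfl⟩
  rw [SetLike.mem_coe, Subgroup.mem_comap] at hn
  obtain ⟨m, hm⟩ := hn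
  rw [commHom_apply] at hm
  have h1 : ((MulAut.conjNormal x : MulAut ↥N) m * m⁻¹)⁻¹ * n ∈ commutator ↥N := QuotientGroup.eq.mp hm
  have h2 : N.subtype (((MulAut.conjNormal x : MulAut ↥N) m * m⁻¹)⁻¹ * n) ∈ commutator P := by
    have h3 : N.subtype (((MulAut.conjNormal x : MulAut ↥N) m * m⁻¹)⁻¹ * n) ∈ (commutator ↥N).map N.subtype :=
      Subgroup.mem_map_of_mem _ h1
    rw [Subgroup.map_subtype_commutator] at h3
    exact Subgroup.commutator_mono le_top le_top h3
  have h4 : N.subtype ((MulAut.conjNormal x : MulAut ↥N) m * m⁻¹) ∈ commutator P := by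
    have : N.subtype ((MulAut.conjNormal x : MulAut ↥N) m * m⁻¹) = ⁅x, (m : P)⁆ := by
      simp [commutatorElement_def]
    rw [this]
    exact Subgroup.commutator_mem_commutator (Subgroup.mem_top _) (Subgroup.mem_top _)
  have := Subgroup.mul_mem _ h4 h2
  rwa [← map_mul, mul_inv_cancel_left] at this

theorem mem_normalizer_of_cj_le' [Finite P] {g : P} {H : Subgroup P}
    (h : cj g H ≤ H) : g ∈ Subgroup.normalizer (H : Set P) := by
  rw [mem_normalizer_iff_cj]
  exact Subgroup.eq_of_le_of_card_ge h (le_of_eq (card_cj g H).symm)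

theorem commSub_normal [Finite P] (N : Subgroup P) [N.Normal] (x : P)
    (hx : N ⊔ Subgroup.zpowers x = ⊤) : (commSub N x).Normal := by
  rw [← Subgroup.normalizer_eq_top_iff, eq_top_iff, ← hx]
  apply sup_le
  · intro n hn
    apply mem_normalizer_of_cj_le'
    rintro _ ⟨_, ⟨i, hi, rfl⟩, rfl⟩
    have hnorm : ((commHom N x).range.comap Abelianization.of).Normal := inferInstance
    refine ⟨⟨n, hn⟩ * i * ⟨n, hn⟩⁻¹, hnorm.conj_mem i hi _, by simp⟩
  · rw [Subgroup.zpowers_le]
    apply mem_normalizer_of_cj_le'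
    rintro _ ⟨_, ⟨i, hi, rfl⟩, rfl⟩
    refine ⟨(MulAut.conjNormal x : MulAut ↥N) i, ?_, by simp⟩
    rw [SetLike.mem_coe, Subgroup.mem_comap] at hi ⊢
    obtain ⟨m, hm⟩ := hi
    refine ⟨(MulAut.conjNormal x : MulAut ↥N) m, ?_⟩
    have h1 := congrArg (Abelianization.map (MulAut.conjNormal x : MulAut ↥N).toMonoidHom) hm
    rw [commHom_apply, Abelianization.map_of, Abelianization.map_of] at h1
    rw [commHom_apply]
    simpa using h1

theorem commutator_eq_commSub [Finite P] (N : Subgroup P) [N.Normal] (x : P)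
    (hx : N ⊔ Subgroup.zpowers x = ⊤) : commutator P = commSub N x := by
  apply le_antisymm _ (commSub_le_commutator N x)
  have hn := commSub_normal N x hx
  set π := QuotientGroup.mk' (commSub N x) with hπ
  have i1 : IsMulCommutative ↥(N.map π) := by
    rw [← Subgroup.le_centralizer_iff_isMulCommutative, ← Subgroup.commutator_eq_bot_iff_le_centralizer,
      ← Subgroup.map_commutator, Subgroup.map_eq_bot_iff, hπ, QuotientGroup.ker_mk']
    exact commutator_le_commSub N x
  have i2 : IsMulCommutative ↥((Subgroup.zpowers x).map π) := inferInstance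
  have h3 : (Subgroup.zpowers x).map π ≤ Subgroup.centralizer ((N.map π : Subgroup _) : Set _) := by
    rw [MonoidHom.map_zpowers, Subgroup.zpowers_le, Subgroup.mem_centralizer_iff]
    rintro _ ⟨n, hn, rfl⟩
    have h4 : π (x * n * x⁻¹ * n⁻¹) = 1 := (QuotientGroup.eq_one_iff _).mpr (comm_mem_commSub N x hn)
    rw [map_mul, map_mul, map_mul, map_inv, map_inv, mul_inv_eq_one, mul_inv_eq_iff_eq_mul] at h4
    exact h4.symm
  have hcomm : IsMulCommutative ↥((N ⊔ Subgroup.zpowers x).map π) := by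
    rw [Subgroup.map_sup]
    exact Cfsg.Agent.Lib.Helper57.isMulCommutative_sup h3
  have h1 := Subgroup.le_centralizer_iff_isMulCommutative.mpr hcomm
  rw [← Subgroup.commutator_eq_bot_iff_le_centralizer, ← Subgroup.map_commutator,
    Subgroup.map_eq_bot_iff, hπ, QuotientGroup.ker_mk', hx] at h1
  exact h1

theorem card_commSub [Finite P] (N : Subgroup P) [N.Normal] (x : P) :
    Nat.card ↥(commHom N x).ker * Nat.card ↥(commSub N x) = Nat.card ↥N * Nat.card ↥(commutator ↥N) := by
  rw [commSub, Subgroup.card_map_of_injective N.subtype_injective]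
  set R := (commHom N x).range with hR
  set I := R.comap Abelianization.of with hI
  have e1 : Nat.card ↥(commHom N x).ker * Nat.card ↥R = Nat.card ↥N := by
    rw [hR, ← Subgroup.index_ker]; exact Subgroup.card_mul_index _
  have e2 : I.index = R.index := Subgroup.index_comap_of_surjective _ (QuotientGroup.mk'_surjective _)
  have e3 : Nat.card ↥I * I.index = Nat.card ↥N := Subgroup.card_mul_index _
  have e4 : Nat.card ↥R * R.index = Nat.card (Abelianization ↥N) := Subgroup.card_mul_index _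
  have e5 : Nat.card ↥(commutator ↥N) * Nat.card (Abelianization ↥N) = Nat.card ↥N :=
    Subgroup.card_mul_index _
  have hpos : 0 < R.index := Nat.pos_of_ne_zero Subgroup.index_ne_zero_of_finite
  have e6 : Nat.card ↥I = Nat.card ↥(commutator ↥N) * Nat.card ↥R := by
    apply Nat.eq_of_mul_eq_mul_right hpos
    rw [← e2, e3, ← e5, ← e4, e2]; ring
  rw [e6, ← e1]; ring

/-- **Main formula**: `#{n ∈ N | [x,n] ∈ N'} * #P' = #N * #N'` when `P = N⟨x⟩`. -/
theorem card_ker_mul_card_commutator [Finite P] (N : Subgroup P) [N.Normal] (x : P)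
    (hx : N ⊔ Subgroup.zpowers x = ⊤) :
    Nat.card {n : ↥N // x * n * x⁻¹ * (n : P)⁻¹ ∈ (commutator ↥N).map N.subtype} * Nat.card ↥(commutator P)
      = Nat.card ↥N * Nat.card ↥(commutator ↥N) := by
  rw [commutator_eq_commSub N x hx, ← card_commSub N x]
  congr 1
  apply Nat.card_congr
  exact Equiv.subtypeEquivRight (fun n => (mem_ker_commHom N x n).symm)

end Cfsg.Agent.Lib.Helper13
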