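import Mathlib.GroupTheory.Sylow
import Mathlib.GroupTheory.Nilpotent
import Mathlib.GroupTheory.SemidirectProduct
import Mathlib.GroupTheory.Subgroup.Centralizer
import Mathlib.GroupTheory.Commutator.Basic

set_option autoImplicit false

namespace Cfsg.Agent.Lib.Helper13

open Subgroup
open scoped commutatorElement

/-- If `W ≤ ⁅W, ⊤⁆` in a nilpotent group then `W` is trivial. -/
theorem eq_bot_of_le_commutator_top {Γ : Type*} [Group Γ] (hΓ : Group.IsNilpotent Γ)
    (W : Subgroup Γ) (hW : W ≤ ⁅W, (⊤ : Subgroup Γ)⁆) : W = ⊥ := by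
  have key : ∀ i : ℕ, W ≤ (⊤ : Subgroup Γ).lowerCentralSeries i := by
    intro i
    induction i with
    | zero => exact le_top
    | succ i ih =>
      rw [Subgroup.lowerCentralSeries_succ]
      exact hW.trans (Subgroup.commutator_mono ih le_rfl)
  obtain ⟨n, hn⟩ := Subgroup.nilpotent_iff_lowerCentralSeries.mp hΓ
  have := key n
  rwa [hn, le_bot_iff] at this

/-- A group `A` acting on a `p`-group `V` (by conjugation inside `G`) through a `p`-group acts
nilpotently: a subgroup `W ≤ V` with `W ≤ ⁅W, A⁆` is trivial. -/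
theorem eq_bot_of_le_commutator_of_pAction {G : Type*} [Group G] [Finite G] {p : ℕ}
    [Fact p.Prime] (V A W : Subgroup G) (hVp : IsPGroup p V)
    (hAV : A ≤ normalizer (V : Set G))
    (hp : ∀ a ∈ A, ∃ k : ℕ, a ^ (p ^ k) ∈ centralizer (V : Set G))
    (hWV : W ≤ V) (hW : W ≤ ⁅W, A⁆) : W = ⊥ := by
  classical
  let φ : A →* MulAut V := (normalizerMonoidHom V).comp (inclusion hAV)
  have hφ : ∀ (a : A) (v : V), ((φ a v : V) : G) = a * v * (a : G)⁻¹ := fun a v => rfl
  have hR : IsPGroup p φ.range := by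
    rintro ⟨_, a, rfl⟩
    obtain ⟨k, hk⟩ := hp a a.2
    refine ⟨k, ?_⟩
    apply Subtype.ext
    change (φ a) ^ (p ^ k) = 1
    rw [← map_pow]
    ext v
    rw [hφ]
    have h1 := mem_centralizer_iff.mp hk v v.2
    change ((a : G) ^ (p ^ k)) * v * ((a : G) ^ (p ^ k))⁻¹ = v
    rw [← h1]
    group
  have hΓ : IsPGroup p (V ⋊[φ.range.subtype] φ.range) := by
    obtain ⟨m, hm⟩ := IsPGroup.iff_card.mp hVp
    obtain ⟨n, hn⟩ := IsPGroup.iff_card.mp hR
    apply IsPGroup.of_card (n := m + n)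
    rw [SemidirectProduct.card, hm, hn, pow_add]
  have : Finite (V ⋊[φ.range.subtype] φ.range) :=
    Finite.of_equiv _ SemidirectProduct.equivProd.symm
  have hnil : Group.IsNilpotent (V ⋊[φ.range.subtype] φ.range) := hΓ.isNilpotent
  set W' : Subgroup (V ⋊[φ.range.subtype] φ.range) :=
    (W.subgroupOf V).map SemidirectProduct.inl with hW'
  have h1 : ⁅W, A⁆ ≤ ((⁅W', (⊤ : Subgroup (V ⋊[φ.range.subtype] φ.range))⁆).comap
      SemidirectProduct.inl).map V.subtype := by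
    rw [commutator_le]
    intro w hw a ha
    have hwV : w ∈ V := hWV hw
    have hcV : ⁅w, a⁆ ∈ V :=
      (le_normalizer_iff_commutator_le_left.mp hAV) (commutator_mem_commutator hwV ha)
    refine ⟨⟨⁅w, a⁆, hcV⟩, ?_, rfl⟩
    rw [SetLike.mem_coe, mem_comap]
    have hr : φ ⟨a, ha⟩ ∈ φ.range := MonoidHom.mem_range.mpr ⟨_, rfl⟩
    have h2 : (SemidirectProduct.inl ⟨⁅w, a⁆, hcV⟩ : V ⋊[φ.range.subtype] φ.range) =
        ⁅(SemidirectProduct.inl ⟨w, hwV⟩ : V ⋊[φ.range.subtype] φ.range),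
          SemidirectProduct.inr ⟨φ ⟨a, ha⟩, hr⟩⁆ := by
      have h5 : ⁅(SemidirectProduct.inl ⟨w, hwV⟩ : V ⋊[φ.range.subtype] φ.range),
          (SemidirectProduct.inr ⟨φ ⟨a, ha⟩, hr⟩ : V ⋊[φ.range.subtype] φ.range)⁆ =
          SemidirectProduct.inl ((⟨w, hwV⟩ : V) *
            (φ.range.subtype ⟨φ ⟨a, ha⟩, hr⟩) (⟨w, hwV⟩ : V)⁻¹) := by
        rw [commutatorElement_def, map_mul, SemidirectProduct.inl_aut, map_inv, map_inv]
        group
      rw [h5]
      congr 1
      apply Subtype.ext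
      change ⁅w, a⁆ = w * (a * w⁻¹ * a⁻¹)
      rw [commutatorElement_def]
      group
    rw [h2]
    exact commutator_mem_commutator ⟨⟨w, hwV⟩, by simpa [mem_subgroupOf] using hw, rfl⟩ (mem_top _)
  have h3 : W' ≤ ⁅W', (⊤ : Subgroup (V ⋊[φ.range.subtype] φ.range))⁆ := by
    rintro _ ⟨w, hw, rfl⟩
    have hw' : (w : G) ∈ W := by simpa [mem_subgroupOf] using hw
    obtain ⟨v, hv, hvw⟩ := h1 (hW hw')
    have : v = w := Subtype.ext hvw
    rw [← this]
    exact hv
  have h4 := eq_bot_of_le_commutator_top hnil W' h3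
  rw [hW', map_eq_bot_iff_of_injective _ SemidirectProduct.inl_injective,
    subgroupOf_eq_bot] at h4
  rw [eq_bot_iff]
  intro x hx
  exact h4.le_bot ⟨hx, hWV hx⟩
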