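import Mathlib
import Cfsg.Prelude.Def_SolvableStructure
import Cfsg.Agent.S0132
import Cfsg.Agent.Lib.Helper31.Nilpotent
import Cfsg.Agent.Lib.Helper2.PResidual
import Cfsg.Agent.Lib.Helper58.NormalComplement

set_option autoImplicit false

namespace Cfsg.Agent.Lib.Helper13

open Cfsg.Agent.Lib.Helper31

universe u
variable {G : Type u} [Group G]

/-- A finite nilpotent group has a normal `p`-complement. -/
theorem hnpc_of_nilpotent [Finite G] (hG : Group.IsNilpotent G) (p : ℕ) [Fact p.Prime] :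
    Cfsg.HasNormalPComplement p G := by
  obtain ⟨P⟩ : Nonempty (Sylow p G) := inferInstance
  obtain ⟨N, hN, hc⟩ := (Cfsg.Agent.S0071.result P).2 (by
    intro Q hQP g _ hg
    rw [Subgroup.mem_centralizer_iff]
    intro x hx
    obtain ⟨k, hk⟩ := (IsPGroup.iff_orderOf.mp P.isPGroup') ⟨x, hQP hx⟩
    rw [Subgroup.orderOf_mk] at hk
    exact commute_of_coprime_orderOf G x g (by rw [hk]; exact (hg.symm.pow_left k)))
  exact ⟨P, N, hN, hc⟩

/-- A finite group with a normal `p`-complement for every prime `p` is nilpotent. -/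
theorem nilpotent_of_forall_hnpc [Finite G]
    (h : ∀ (p : ℕ) [Fact p.Prime], Cfsg.HasNormalPComplement p G) : Group.IsNilpotent G := by
  have h' : ∀ p : {p : ℕ // p.Prime}, ∃ N : Subgroup G, N.Normal ∧ Nat.Coprime (Nat.card N) p ∧
      ∃ k, N.index = (p : ℕ) ^ k := by
    intro p
    have : Fact (p : ℕ).Prime := ⟨p.2⟩
    exact Cfsg.Agent.Lib.Helper2.hasNormalPComplement_iff_exists.mp (h p)
  choose N hNn hNc hNi using h'
  apply ((Group.isNilpotent_of_finite_tfae (G := G)).out 0 3).mpr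
  intro p _ P
  have hp : p.Prime := Fact.out
  set D : Subgroup G := ⨅ q : {q : {q : ℕ // q.Prime} // (q : ℕ) ≠ p}, N q.1 with hD
  have hDn : D.Normal := Subgroup.normal_iInf_normal (fun q => hNn q.1)
  have hPD : (P : Subgroup G) ≤ D := by
    rw [hD, le_iInf_iff]
    intro q x hx
    have := hNn q.1
    have : Fact (q.1 : ℕ).Prime := ⟨q.1.2⟩
    obtain ⟨k, hk⟩ := hNi q.1
    obtain ⟨j, hj⟩ := (IsPGroup.iff_orderOf.mp P.isPGroup') ⟨x, hx⟩
    rw [Subgroup.orderOf_mk] at hj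
    refine Cfsg.Agent.Lib.Helper58.mem_of_coprime_order (N q.1) k hk x ?_
    rw [hj]
    exact ((Nat.coprime_primes hp q.1.2).mpr (Ne.symm q.2)).pow_left j
  have hDp : IsPGroup p D := by
    rw [IsPGroup.iff_orderOf]
    rintro ⟨x, hx⟩
    rw [Subgroup.orderOf_mk]
    refine ⟨_, Nat.eq_prime_pow_of_unique_prime_dvd (orderOf_pos x).ne' ?_⟩
    intro d hd hdx
    by_contra hne
    have hxN : x ∈ N ⟨d, hd⟩ := by
      rw [hD, Subgroup.mem_iInf] at hx
      exact hx ⟨⟨d, hd⟩, hne⟩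
    have h1 : orderOf x ∣ Nat.card (N ⟨d, hd⟩) := by
      have := orderOf_dvd_natCard (⟨x, hxN⟩ : N ⟨d, hd⟩)
      rwa [Subgroup.orderOf_mk] at this
    have h2 := hNc ⟨d, hd⟩
    exact hd.one_lt.ne' (Nat.eq_one_of_dvd_coprimes h2 (hdx.trans h1) dvd_rfl)
  have : (P : Subgroup G) = D := (P.3 hDp hPD).symm
  rw [this]
  exact hDn

/-- In a minimal non-nilpotent group some Sylow subgroup is normal and has no normal complement. -/
theorem mnn_exists_normal_sylow [Finite G] (hG : Cfsg.IsMinimalNonNilpotent G) :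
    ∃ q : ℕ, q.Prime ∧ ¬ Cfsg.HasNormalPComplement q G ∧ ∀ Q : Sylow q G, (Q : Subgroup G).Normal := by
  by_contra hcon
  push Not at hcon
  apply hG.1
  apply nilpotent_of_forall_hnpc
  intro q hq
  by_contra hnq
  obtain ⟨Q, hQ⟩ := hcon q hq.out hnq
  exact hQ ((Cfsg.Agent.S0132.result hnq (fun H hH => hnpc_of_nilpotent (hG.2 H hH) q)).2.2 Q)

/-- If a normal Sylow subgroup `Q ≠ ⊥` of a minimal non-nilpotent group is given, some element of order
prime to `q` does not centralize it. -/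
theorem mnn_exists_elt [Finite G] (hG : Cfsg.IsMinimalNonNilpotent G) (q : ℕ) [Fact q.Prime]
    (Q : Sylow q G) (hQn : (Q : Subgroup G).Normal) (hQ : (Q : Subgroup G) ≠ ⊥) :
    ∃ x : G, (orderOf x).Coprime q ∧ x ∉ Subgroup.centralizer ((Q : Subgroup G) : Set G) := by
  by_contra hcon
  push Not at hcon
  apply hG.1
  obtain ⟨K, hK⟩ := Subgroup.exists_right_complement'_of_coprime (N := (Q : Subgroup G))
    Q.card_coprime_index
  have hKne : K ≠ ⊤ := by
    rintro rfl
    apply hQ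
    have := hK.disjoint.eq_bot
    simpa using this
  have hKnil := hG.2 K hKne
  have hQnil : Group.IsNilpotent (Q : Subgroup G) := Q.isPGroup'.isNilpotent
  have hq : q.Prime := Fact.out
  have hKq : ∀ k ∈ K, (orderOf k).Coprime q := by
    intro k hk
    have h1 : orderOf k ∣ Nat.card K := by
      have := orderOf_dvd_natCard (⟨k, hk⟩ : K)
      rwa [Subgroup.orderOf_mk] at this
    have h2 : (Q : Subgroup G).index = Nat.card K := hK.symm.index_eq_card
    rw [← h2] at h1
    exact Nat.Coprime.coprime_dvd_left h1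
      ((Nat.Prime.coprime_iff_not_dvd hq).mpr Q.not_dvd_index).symm
  have hcomm : ∀ (a : ↥(Q : Subgroup G)) (b : ↥K),
      Commute ((Q : Subgroup G).subtype a) (K.subtype b) := by
    intro a b
    have := hcon b.1 (hKq b.1 b.2)
    rw [Subgroup.mem_centralizer_iff] at this
    exact this a.1 a.2
  let f : ↥(Q : Subgroup G) × ↥K →* G :=
    MonoidHom.noncommCoprod (Q : Subgroup G).subtype K.subtype hcomm
  have hf : Function.Surjective f := by
    rw [← MonoidHom.range_eq_top]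
    have h1 := MonoidHom.noncommCoprod_range (Q : Subgroup G).subtype K.subtype hcomm
    rw [Subgroup.range_subtype, Subgroup.range_subtype, hK.sup_eq_top] at h1
    exact h1
  exact Group.nilpotent_of_surjective f hf

/-- Structure of a minimal non-nilpotent group relative to a normal Sylow subgroup `Q ≠ ⊥`. -/
theorem mnn_structure [Finite G] (hG : Cfsg.IsMinimalNonNilpotent G) (q : ℕ) [Fact q.Prime]
    (Q : Sylow q G) (hQn : (Q : Subgroup G).Normal) (hQ : (Q : Subgroup G) ≠ ⊥) :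
    ∃ (p : ℕ) (x : G) (k : ℕ), p.Prime ∧ p ≠ q ∧ orderOf x = p ^ k ∧
      x ∉ Subgroup.centralizer ((Q : Subgroup G) : Set G) ∧
      (Q : Subgroup G) ⊔ Subgroup.zpowers x = ⊤ ∧
      x ^ p ∈ Subgroup.centralizer ((Q : Subgroup G) : Set G) := by
  have hq : q.Prime := Fact.out
  obtain ⟨x, ⟨hxq, hxC⟩, hmin⟩ := Set.exists_min_image
    {x : G | (orderOf x).Coprime q ∧ x ∉ Subgroup.centralizer ((Q : Subgroup G) : Set G)} orderOf
    (Set.toFinite _) (mnn_exists_elt hG q Q hQn hQ)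
  have hmin' : ∀ y : G, (orderOf y).Coprime q → orderOf y < orderOf x →
      y ∈ Subgroup.centralizer ((Q : Subgroup G) : Set G) := by
    intro y hy hlt
    by_contra hyC
    exact absurd (hmin y ⟨hy, hyC⟩) (not_le.mpr hlt)
  have hx1 : orderOf x ≠ 1 := by
    intro h
    rw [orderOf_eq_one_iff] at h
    exact hxC (h ▸ Subgroup.one_mem _)
  have hp : (orderOf x).minFac.Prime := Nat.minFac_prime hx1
  set p := (orderOf x).minFac with hpdef
  have : Fact p.Prime := ⟨hp⟩
  have hpx : p ∣ orderOf x := Nat.minFac_dvd _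
  have hpq : p ≠ q := by
    rintro rfl
    exact hp.one_lt.ne' (Nat.eq_one_of_dvd_coprimes hxq hpx dvd_rfl)
  have hxp : x ^ p ∈ Subgroup.centralizer ((Q : Subgroup G) : Set G) := by
    have h1 : orderOf (x ^ p) = orderOf x / p := orderOf_pow_of_dvd hp.ne_zero hpx
    apply hmin'
    · rw [h1]
      exact Nat.Coprime.coprime_dvd_left (Nat.div_dvd_of_dvd hpx) hxq
    · rw [h1]
      exact Nat.div_lt_self (orderOf_pos x) hp.one_lt
  obtain ⟨a, ha, b, hb, hab, ⟨k, hk⟩, hbp⟩ := exists_prime_decomp p x (isOfFinOrder_of_finite x)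
  have hao : orderOf a ∣ orderOf x := orderOf_dvd_of_mem_zpowers ha
  have hbo : orderOf b ∣ orderOf x := orderOf_dvd_of_mem_zpowers hb
  have hbC : b ∈ Subgroup.centralizer ((Q : Subgroup G) : Set G) := by
    apply hmin' b (Nat.Coprime.coprime_dvd_left hbo hxq)
    apply lt_of_le_of_ne (Nat.le_of_dvd (orderOf_pos x) hbo)
    intro h
    rw [h] at hbp
    exact hp.one_lt.ne' (Nat.eq_one_of_dvd_coprimes hbp hpx dvd_rfl)
  have haC : a ∉ Subgroup.centralizer ((Q : Subgroup G) : Set G) := by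
    intro haC
    exact hxC (hab ▸ Subgroup.mul_mem _ haC hbC)
  have hax : orderOf a = orderOf x := by
    apply le_antisymm (Nat.le_of_dvd (orderOf_pos x) hao)
    exact hmin a ⟨Nat.Coprime.coprime_dvd_left hao hxq, haC⟩
  refine ⟨p, x, k, hp, hpq, hax ▸ hk, hxC, ?_, hxp⟩
  by_contra hne
  have hnil := hG.2 _ hne
  apply hxC
  rw [Subgroup.mem_centralizer_iff]
  intro y hy
  have hyH : y ∈ (Q : Subgroup G) ⊔ Subgroup.zpowers x := (le_sup_left : (Q : Subgroup G) ≤ _) hy
  have hxH : x ∈ (Q : Subgroup G) ⊔ Subgroup.zpowers x :=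
    (le_sup_right : Subgroup.zpowers x ≤ _) (Subgroup.mem_zpowers x)
  obtain ⟨j, hj⟩ := (IsPGroup.iff_orderOf.mp Q.isPGroup') ⟨y, hy⟩
  rw [Subgroup.orderOf_mk] at hj
  have := commute_of_coprime_orderOf _ (⟨y, hyH⟩ : ((Q : Subgroup G) ⊔ Subgroup.zpowers x : Subgroup G))
    ⟨x, hxH⟩ (by
      rw [Subgroup.orderOf_mk, Subgroup.orderOf_mk, hj]
      exact hxq.symm.pow_left j)
  exact congrArg Subtype.val this

/-- The quotient of a group by a normal subgroup `Q` with `Q ⊔ ⟨x⟩ = ⊤` is cyclic. -/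
theorem isCyclic_quotient_of_sup_zpowers (Q : Subgroup G) [Q.Normal] (x : G)
    (h : Q ⊔ Subgroup.zpowers x = ⊤) : IsCyclic (G ⧸ Q) := by
  apply isCyclic_of_surjective ((QuotientGroup.mk' Q).comp (Subgroup.zpowers x).subtype)
  intro g
  obtain ⟨g, rfl⟩ := QuotientGroup.mk'_surjective Q g
  have hg : g ∈ Q ⊔ Subgroup.zpowers x := by rw [h]; trivial
  rw [Subgroup.mem_sup_of_normal_left] at hg
  obtain ⟨y, hy, z, hz, rfl⟩ := hg
  refine ⟨⟨z, hz⟩, ?_⟩
  simp only [MonoidHom.comp_apply, Subgroup.subtype_apply, QuotientGroup.mk'_apply]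
  rw [QuotientGroup.eq]
  have h1 : z⁻¹ * (y * z) = z⁻¹ * y * z := by group
  rw [h1]
  exact (inferInstance : Q.Normal).conj_mem' y hy z

/-- **Schmidt**: structure of minimal non-nilpotent groups. -/
theorem schmidt [Finite G] (hG : Cfsg.IsMinimalNonNilpotent G) :
    ∃ p q : ℕ, p.Prime ∧ q.Prime ∧ p ≠ q ∧ ∃ (P : Sylow p G) (Q : Sylow q G), IsCyclic P ∧
      (Q : Subgroup G).Normal ∧ (P : Subgroup G) ⊔ Q = ⊤ := by
  obtain ⟨q, hq, hnq, hQn⟩ := mnn_exists_normal_sylow hG
  have : Fact q.Prime := ⟨hq⟩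
  obtain ⟨Q⟩ : Nonempty (Sylow q G) := inferInstance
  have hQ : (Q : Subgroup G) ≠ ⊥ := by
    intro hbot
    apply hnq
    refine ⟨Q, ⊤, inferInstance, ?_⟩
    rw [hbot]
    exact Subgroup.isComplement'_top_bot
  obtain ⟨p, x, k, hp, hpq, hxo, hxC, htop, hxp⟩ := mnn_structure hG q Q (hQn Q) hQ
  have : Fact p.Prime := ⟨hp⟩
  have hxP : IsPGroup p (Subgroup.zpowers x) := by
    apply IsPGroup.of_card (n := k)
    rw [Nat.card_zpowers, hxo]
  obtain ⟨P, hP⟩ := hxP.exists_le_sylow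
  refine ⟨p, q, hp, hq, hpq, P, Q, ?_, hQn Q, ?_⟩
  · have := hQn Q
    have := isCyclic_quotient_of_sup_zpowers (Q : Subgroup G) x htop
    apply isCyclic_of_injective ((QuotientGroup.mk' (Q : Subgroup G)).comp (P : Subgroup G).subtype)
    rw [injective_iff_map_eq_one]
    intro y hy
    simp only [MonoidHom.comp_apply, Subgroup.subtype_apply, QuotientGroup.mk'_apply,
      QuotientGroup.eq_one_iff] at hy
    have hd := IsPGroup.disjoint_of_ne p q hpq _ _ P.isPGroup' Q.isPGroup'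
    have : (y : G) ∈ (P : Subgroup G) ⊓ Q := ⟨y.2, hy⟩
    rw [hd.eq_bot, Subgroup.mem_bot] at this
    exact Subtype.ext this
  · have h1 : (Q : Subgroup G) ⊔ Subgroup.zpowers x ≤ (P : Subgroup G) ⊔ Q :=
      sup_le le_sup_right (hP.trans le_sup_left)
    rw [htop] at h1
    exact top_le_iff.mp h1

end Cfsg.Agent.Lib.Helper13
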