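import Cfsg.Prelude.Def_Transfer
import Mathlib.GroupTheory.Index
import Mathlib.Data.Fintype.Lattice
import Mathlib.GroupTheory.Subgroup.Centralizer

set_option autoImplicit false

namespace Cfsg.Agent.Lib.Helper13

open Subgroup

theorem card_mul_card_le {G : Type*} [Group G] [Finite G] (H K : Subgroup G) :
    Nat.card H * Nat.card K ≤ Nat.card (H ⊔ K : Subgroup G) * Nat.card (H ⊓ K : Subgroup G) := by
  have h1 : Nat.card (H ⊓ K : Subgroup G) * (H ⊓ K).relIndex H = Nat.card H := by
    rw [← relIndex_bot_left, ← relIndex_bot_left, relIndex_mul_relIndex _ _ _ bot_le inf_le_left]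
  have h2 : Nat.card K * K.relIndex (H ⊔ K) = Nat.card (H ⊔ K : Subgroup G) := by
    rw [← relIndex_bot_left, ← relIndex_bot_left, relIndex_mul_relIndex _ _ _ bot_le le_sup_right]
  have h3 : K.relIndex H ≤ K.relIndex (H ⊔ K) :=
    relIndex_le_of_le_right le_sup_left (by
      intro h
      have := h2
      rw [h, mul_zero] at this
      exact Nat.card_pos.ne this)
  rw [inf_relIndex_left] at h1
  rw [← h1, ← h2]
  nlinarith [Nat.mul_le_mul_left (Nat.card (H ⊓ K : Subgroup G) * Nat.card K) h3]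

theorem isElementaryAbelian_bot {G : Type*} [Group G] (p : ℕ) :
    Cfsg.IsElementaryAbelian p (⊥ : Subgroup G) := by
  refine ⟨IsMulCommutative.of_setLike_mul_comm ?_, ?_⟩
  · intro a ha b hb
    rw [Subgroup.mem_bot] at ha hb
    rw [ha, hb]
  · intro a ha
    rw [Subgroup.mem_bot] at ha
    rw [ha, one_pow]

theorem isEA_mono {G : Type*} [Group G] {p : ℕ} {A B : Subgroup G}
    (hA : Cfsg.IsElementaryAbelian p A) (hBA : B ≤ A) : Cfsg.IsElementaryAbelian p B := by
  have := hA.1
  exact ⟨IsMulCommutative.of_setLike_mul_comm fun a ha b hb =>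
    setLike_mul_comm (hBA ha) (hBA hb), fun a ha => hA.2 a (hBA ha)⟩

theorem isEA_map {G H : Type*} [Group G] [Group H] {p : ℕ} {A : Subgroup G}
    (hA : Cfsg.IsElementaryAbelian p A) (f : G →* H) : Cfsg.IsElementaryAbelian p (A.map f) := by
  have := hA.1
  refine ⟨inferInstance, ?_⟩
  rintro _ ⟨a, ha, rfl⟩
  rw [← map_pow, hA.2 a ha, map_one]

theorem isEA_comap {G H : Type*} [Group G] [Group H] {p : ℕ} {A : Subgroup G}
    (hA : Cfsg.IsElementaryAbelian p A) (f : H →* G) (hf : Function.Injective f) :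
    Cfsg.IsElementaryAbelian p (A.comap f) := by
  have := hA.1
  refine ⟨Subgroup.comap_injective_isMulCommutative A hf, ?_⟩
  intro a ha
  apply hf
  rw [map_pow, map_one]
  exact hA.2 _ ha

theorem isEA_subgroupOf {G : Type*} [Group G] {p : ℕ} {A : Subgroup G}
    (hA : Cfsg.IsElementaryAbelian p A) (U : Subgroup G) :
    Cfsg.IsElementaryAbelian p (A.subgroupOf U) :=
  isEA_comap hA U.subtype U.subtype_injective

theorem isEA_isPGroup {G : Type*} [Group G] {p : ℕ} {A : Subgroup G}
    (hA : Cfsg.IsElementaryAbelian p A) : IsPGroup p A := by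
  intro a
  refine ⟨1, ?_⟩
  apply Subtype.ext
  rw [pow_one]
  exact hA.2 a a.2

theorem isEA_sup {G : Type*} [Group G] {p : ℕ} {A B : Subgroup G}
    (hA : Cfsg.IsElementaryAbelian p A) (hB : Cfsg.IsElementaryAbelian p B)
    (hAB : B ≤ Subgroup.centralizer (A : Set G)) : Cfsg.IsElementaryAbelian p (A ⊔ B) := by
  have hAc := hA.1
  have hBc := hB.1
  have hcomm : ∀ x ∈ (A : Set G) ∪ B, ∀ y ∈ (A : Set G) ∪ B, x * y = y * x := by
    rintro x (hx | hx) y (hy | hy)
    · exact setLike_mul_comm hx hy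
    · exact (Subgroup.mem_centralizer_iff.mp (hAB hy) x hx)
    · exact (Subgroup.mem_centralizer_iff.mp (hAB hx) y hy).symm
    · exact setLike_mul_comm hx hy
  have hsup : A ⊔ B = Subgroup.closure ((A : Set G) ∪ B) := by
    rw [Subgroup.closure_union, Subgroup.closure_eq, Subgroup.closure_eq]
  have hc : IsMulCommutative (A ⊔ B : Subgroup G) := by
    rw [hsup]
    exact Subgroup.isMulCommutative_closure hcomm
  refine ⟨hc, ?_⟩
  intro x hx
  rw [hsup] at hx
  induction hx using Subgroup.closure_induction with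
  | mem x hx =>
    rcases hx with hx | hx
    · exact hA.2 x hx
    · exact hB.2 x hx
  | one => exact one_pow p
  | mul x y hx hy hx' hy' =>
    have : Commute x y := by
      rw [← hsup] at hx hy
      exact setLike_mul_comm hx hy
    rw [this.mul_pow, hx', hy', one_mul]
  | inv x hx hx' => rw [inv_pow, hx', inv_one]

theorem isElementaryAbelian_zpowers {G : Type*} [Group G] {p : ℕ} {x : G} (hx : x ^ p = 1) :
    Cfsg.IsElementaryAbelian p (Subgroup.zpowers x) := by
  refine ⟨inferInstance, ?_⟩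
  rintro _ ⟨i, rfl⟩
  change (x ^ i) ^ p = 1
  rw [← zpow_natCast, ← zpow_mul, mul_comm, zpow_mul, zpow_natCast, hx, one_zpow]

theorem exists_maxElementaryAbelian {G : Type*} [Group G] [Finite G] (p : ℕ) :
    ∃ A : Subgroup G, A ∈ Cfsg.maxElementaryAbelianSubgroups p G := by
  have : Nonempty {A : Subgroup G // Cfsg.IsElementaryAbelian p A} :=
    ⟨⟨⊥, isElementaryAbelian_bot p⟩⟩
  obtain ⟨A, hA⟩ := Finite.exists_max
    (fun A : {A : Subgroup G // Cfsg.IsElementaryAbelian p A} => Nat.card (A : Subgroup G))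
  exact ⟨A.1, A.2, fun B hB => hA ⟨B, hB⟩⟩

theorem le_thompsonSubgroup {G : Type*} [Group G] {p : ℕ} {A : Subgroup G}
    (hA : A ∈ Cfsg.maxElementaryAbelianSubgroups p G) : A ≤ Cfsg.thompsonSubgroup p G :=
  le_sSup hA

/-- A maximal elementary abelian subgroup of `G` inside `U` is one of `U`. -/
theorem subgroupOf_mem_max {G : Type*} [Group G] [Finite G] {p : ℕ} {A U : Subgroup G}
    (hA : A ∈ Cfsg.maxElementaryAbelianSubgroups p G) (hAU : A ≤ U) :
    A.subgroupOf U ∈ Cfsg.maxElementaryAbelianSubgroups p U := by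
  refine ⟨isEA_subgroupOf hA.1 U, fun B hB => ?_⟩
  have h1 := hA.2 (B.map U.subtype) (isEA_map hB U.subtype)
  rw [Subgroup.card_map_of_injective U.subtype_injective] at h1
  have h2 : Nat.card (A.subgroupOf U) = Nat.card A :=
    Nat.card_congr (Subgroup.subgroupOfEquivOfLe hAU).toEquiv
  rw [h2]
  exact h1

/-- If `U` contains a maximal elementary abelian subgroup of `G`, then the maximal elementary
abelian subgroups of `U` are such in `G`. -/
theorem map_subtype_mem_max {G : Type*} [Group G] [Finite G] {p : ℕ} {A₀ U : Subgroup G}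
    (hA₀ : A₀ ∈ Cfsg.maxElementaryAbelianSubgroups p G) (hAU : A₀ ≤ U) {A : Subgroup U}
    (hA : A ∈ Cfsg.maxElementaryAbelianSubgroups p U) :
    A.map U.subtype ∈ Cfsg.maxElementaryAbelianSubgroups p G := by
  refine ⟨isEA_map hA.1 U.subtype, fun B hB => ?_⟩
  rw [Subgroup.card_map_of_injective U.subtype_injective]
  have h1 := hA.2 (A₀.subgroupOf U) (isEA_subgroupOf hA₀.1 U)
  have h2 : Nat.card (A₀.subgroupOf U) = Nat.card A₀ :=
    Nat.card_congr (Subgroup.subgroupOfEquivOfLe hAU).toEquiv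
  rw [h2] at h1
  exact (hA₀.2 B hB).trans h1

end Cfsg.Agent.Lib.Helper13
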